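import Cfsg.Agent.Helper22.OutOne

/-!
# Two abstract lemmas on automorphism groups

* `card_mulAut_le_of_not_swap`: a variant of `Helper22.OutTwo.card_mulAut_le_card`: the elements of
  prime order `p` fall into the classes of `u` and `u ^ s`, but no automorphism maps `u` to `u ^ s`.
* `exists_conj_of_sylow_center_of_inv`: a variant of `Helper22.OutTwo.exists_conj_of_sylow_center`:
  the centre of a Sylow subgroup may be larger, but `z` is the only non-trivial element of it with
  an automorphism-invariant property `P`.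
-/

set_option autoImplicit false

namespace Cfsg.Agent.Helper17.Fi23Out

open Cfsg.Agent.Helper14.J3Out

theorem card_mulAut_le_of_not_swap {J : Type*} [Group J] [Finite J] (p m c mc s : ℕ)
    [hp : Fact p.Prime]
    (hcard : Nat.card J = p * m) (hpm : ¬ p ∣ m) (hc : 0 < c) (hcard' : Nat.card J = c * mc)
    (x u n : J) (hgen : Subgroup.closure {x, u} = ⊤) (hu : orderOf u = p)
    (V : Subgroup J) (hV : Nat.card V = c) (hVu : V ≤ Subgroup.centralizer {u})
    (r : ℕ) (hn : n * u * n⁻¹ = u ^ r)
    (hr : ∀ k, 0 < k → k < p → ∃ j, k % p = r ^ j % p ∨ k % p = (s * r ^ j) % p)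
    (hno : ∀ φ : MulAut J, φ u ≠ u ^ s)
    (S : Finset J) (hS : S.card ≤ c)
    (hstab : ∀ φ : MulAut J, φ u = u → φ x ∈ S) :
    Nat.card (MulAut J) ≤ Nat.card J := by
  classical
  have hns : n * u ^ s * n⁻¹ = (u ^ s) ^ r := by
    rw [← conj_pow, hn, ← pow_mul, ← pow_mul, mul_comm]
  have hO : ∀ φ : MulAut J, φ u ∈ Set.range fun g : J => g * u * g⁻¹ := by
    intro φ
    have hw : orderOf (φ u) = p := by rw [MulEquiv.orderOf_eq, hu]
    obtain ⟨g, k, hk0, hkp, hgk⟩ := exists_conj_pow p m hcard hpm u (φ u) hu hw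
    obtain ⟨j, hj | hj⟩ := hr k hk0 hkp
    · refine ⟨g * n ^ j, ?_⟩
      have e : u ^ k = u ^ (r ^ j) := by
        calc u ^ k = u ^ (k % orderOf u) := (pow_mod_orderOf u k).symm
          _ = u ^ (r ^ j % orderOf u) := by rw [hu, hj]
          _ = u ^ (r ^ j) := pow_mod_orderOf u _
      show g * n ^ j * u * (g * n ^ j)⁻¹ = φ u
      rw [hgk, e, ← conj_pow_eq u hn j]
      group
    · exfalso
      have e : u ^ k = (u ^ s) ^ (r ^ j) := by
        calc u ^ k = u ^ (k % orderOf u) := (pow_mod_orderOf u k).symm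
          _ = u ^ (s * r ^ j % orderOf u) := by rw [hu, hj]
          _ = u ^ (s * r ^ j) := pow_mod_orderOf u _
          _ = (u ^ s) ^ (r ^ j) := pow_mul u s _
      -- `φ u = (g n^j) u^s (g n^j)⁻¹`
      have h1 : φ u = (g * n ^ j) * u ^ s * (g * n ^ j)⁻¹ := by
        rw [hgk, e, ← conj_pow_eq (u ^ s) hns j]
        group
      apply hno ((MulAut.conj (g * n ^ j))⁻¹ * φ)
      rw [MulAut.mul_apply, h1, MulAut.conj_inv_apply]
      group
  have hc1 : Nat.card (Set.range fun g : J => g * u * g⁻¹) ≤ mc :=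
    card_class_le c mc hc hcard' u V hV hVu
  have horb : Nat.card (MulAction.orbit (MulAut J) u) ≤ mc := by
    have hsub : MulAction.orbit (MulAut J) u ⊆ Set.range fun g : J => g * u * g⁻¹ := by
      rintro _ ⟨φ, rfl⟩
      exact hO φ
    exact (Nat.card_mono (Set.toFinite _) hsub).trans hc1
  have hst : Nat.card (MulAction.stabilizer (MulAut J) u) ≤ c := by
    let f : MulAction.stabilizer (MulAut J) u → S := fun φ =>
      ⟨φ.1 x, hstab φ.1 (MulAction.mem_stabilizer_iff.1 φ.2)⟩
    have hf : Function.Injective f := by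
      intro φ ψ h
      have h1 : φ.1 x = ψ.1 x := congrArg Subtype.val h
      have h2 : φ.1 u = u := MulAction.mem_stabilizer_iff.1 φ.2
      have h3 : ψ.1 u = u := MulAction.mem_stabilizer_iff.1 ψ.2
      apply Subtype.ext
      apply MulEquiv.toMonoidHom_injective
      apply MonoidHom.eq_of_eqOn_dense hgen
      intro y hy
      rcases hy with rfl | hy
      · exact h1
      · rw [Set.mem_singleton_iff] at hy
        subst hy
        show φ.1 y = ψ.1 y
        rw [h2, h3]
    calc Nat.card (MulAction.stabilizer (MulAut J) u) ≤ Nat.card S :=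
          Nat.card_le_card_of_injective f hf
      _ = S.card := by rw [Nat.card_eq_fintype_card, Fintype.card_coe]
      _ ≤ c := hS
  have hprod : Nat.card (MulAut J) = Nat.card (MulAction.orbit (MulAut J) u) *
      Nat.card (MulAction.stabilizer (MulAut J) u) := by
    rw [← Nat.card_prod]
    exact (Nat.card_congr (MulAction.orbitProdStabilizerEquivGroup (MulAut J) u)).symm
  rw [hprod, hcard']
  calc Nat.card (MulAction.orbit (MulAut J) u) * Nat.card (MulAction.stabilizer (MulAut J) u)
      ≤ mc * c := Nat.mul_le_mul horb hst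
    _ = c * mc := Nat.mul_comm _ _

/-- an automorphism maps `z` to a conjugate, when `z` is the only non-trivial element of the centre
of a Sylow subgroup with an automorphism-invariant property -/
theorem exists_conj_of_sylow_center_of_inv {J : Type*} [Group J] [Finite J] (p : ℕ)
    [Fact p.Prime] (P : J → Prop) (hP : ∀ (ψ : MulAut J) (x : J), P x → P (ψ x))
    (S : Subgroup J) (hS : Nat.card S = p ^ (Nat.card J).factorization p) (z : J) (hzS : z ∈ S)
    (hPz : P z)
    (hzc : ∀ s ∈ S, s * z = z * s)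
    (hcen : ∀ s ∈ S, (∀ t ∈ S, t * s = s * t) → s = 1 ∨ s = z ∨ ¬ P s) (φ : MulAut J) :
    ∃ g : J, φ z = g * z * g⁻¹ := by
  have hS' : Nat.card (S.map φ.toMonoidHom) = p ^ (Nat.card J).factorization p := by
    rw [← hS]
    exact Nat.card_congr (S.equivMapOfInjective _ φ.injective).symm.toEquiv
  let Q : Sylow p J := Sylow.ofCard S hS
  let Q' : Sylow p J := Sylow.ofCard (S.map φ.toMonoidHom) hS'
  obtain ⟨g, hg⟩ := MulAction.exists_smul_eq J Q Q'
  have hQ' : ∀ x : J, x ∈ S.map φ.toMonoidHom ↔ ∃ s ∈ S, g * s * g⁻¹ = x := by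
    intro x
    have : (S.map φ.toMonoidHom) = ((g • Q : Sylow p J) : Subgroup J) := by rw [hg]; rfl
    rw [this, Sylow.coe_subgroup_smul, Subgroup.mem_smul_pointwise_iff_exists]
    rfl
  obtain ⟨s, hsS, hs⟩ := (hQ' (φ z)).mp ⟨z, hzS, rfl⟩
  have hsc : ∀ t ∈ S, t * s = s * t := by
    intro t ht
    obtain ⟨t', ht', e⟩ := (hQ' (g * t * g⁻¹)).mpr ⟨t, ht, rfl⟩
    have e' : φ t' = g * t * g⁻¹ := e
    have c1 : φ t' * φ z = φ z * φ t' := by rw [← map_mul, ← map_mul, hzc t' ht']
    rw [e', ← hs] at c1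
    have : g * (t * s) * g⁻¹ = g * (s * t) * g⁻¹ := by
      calc g * (t * s) * g⁻¹ = (g * t * g⁻¹) * (g * s * g⁻¹) := by group
        _ = (g * s * g⁻¹) * (g * t * g⁻¹) := c1
        _ = g * (s * t) * g⁻¹ := by group
    exact mul_left_cancel (mul_right_cancel this)
  have hPs : P s := by
    have h1 : P (φ z) := hP φ z hPz
    have h2 := hP (MulAut.conj g)⁻¹ (φ z) h1
    rw [← hs, MulAut.conj_inv_apply] at h2
    have e : g⁻¹ * (g * s * g⁻¹) * g = s := by group
    rwa [e] at h2
  rcases hcen s hsS hsc with rfl | rfl | hn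
  · have h1 : φ z = 1 := by rw [← hs]; group
    have hz1 : z = 1 := by
      have := congrArg φ.symm h1
      simpa using this
    exact ⟨1, by rw [hz1]; simp⟩
  · exact ⟨g, hs.symm⟩
  · exact absurd hPs hn

end Cfsg.Agent.Helper17.Fi23Out
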