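import Cfsg.Agent.Helper17.Fi23Out.Cand

/-! kernel checks of `chkC` on the points `0 ≤ j < 2000` -/

set_option autoImplicit false
set_option linter.all false
set_option maxRecDepth 100000

namespace Cfsg.Agent.Helper17.Fi23Out

open Cfsg.Agent.Helper17.TCG

theorem CandK00_0 : allR (0 + 0 * 50) 50 chkC = true := by decide +kernel
theorem CandK00_1 : allR (0 + 1 * 50) 50 chkC = true := by decide +kernel
theorem CandK00_2 : allR (0 + 2 * 50) 50 chkC = true := by decide +kernel
theorem CandK00_3 : allR (0 + 3 * 50) 50 chkC = true := by decide +kernel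
theorem CandK00_4 : allR (0 + 4 * 50) 50 chkC = true := by decide +kernel
theorem CandK00_5 : allR (0 + 5 * 50) 50 chkC = true := by decide +kernel
theorem CandK00_6 : allR (0 + 6 * 50) 50 chkC = true := by decide +kernel
theorem CandK00_7 : allR (0 + 7 * 50) 50 chkC = true := by decide +kernel
theorem CandK00_8 : allR (0 + 8 * 50) 50 chkC = true := by decide +kernel
theorem CandK00_9 : allR (0 + 9 * 50) 50 chkC = true := by decide +kernel
theorem CandK00_10 : allR (0 + 10 * 50) 50 chkC = true := by decide +kernel
theorem CandK00_11 : allR (0 + 11 * 50) 50 chkC = true := by decide +kernel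
theorem CandK00_12 : allR (0 + 12 * 50) 50 chkC = true := by decide +kernel
theorem CandK00_13 : allR (0 + 13 * 50) 50 chkC = true := by decide +kernel
theorem CandK00_14 : allR (0 + 14 * 50) 50 chkC = true := by decide +kernel
theorem CandK00_15 : allR (0 + 15 * 50) 50 chkC = true := by decide +kernel
theorem CandK00_16 : allR (0 + 16 * 50) 50 chkC = true := by decide +kernel
theorem CandK00_17 : allR (0 + 17 * 50) 50 chkC = true := by decide +kernel
theorem CandK00_18 : allR (0 + 18 * 50) 50 chkC = true := by decide +kernel
theorem CandK00_19 : allR (0 + 19 * 50) 50 chkC = true := by decide +kernel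
theorem CandK00_20 : allR (0 + 20 * 50) 50 chkC = true := by decide +kernel
theorem CandK00_21 : allR (0 + 21 * 50) 50 chkC = true := by decide +kernel
theorem CandK00_22 : allR (0 + 22 * 50) 50 chkC = true := by decide +kernel
theorem CandK00_23 : allR (0 + 23 * 50) 50 chkC = true := by decide +kernel
theorem CandK00_24 : allR (0 + 24 * 50) 50 chkC = true := by decide +kernel
theorem CandK00_25 : allR (0 + 25 * 50) 50 chkC = true := by decide +kernel
theorem CandK00_26 : allR (0 + 26 * 50) 50 chkC = true := by decide +kernel
theorem CandK00_27 : allR (0 + 27 * 50) 50 chkC = true := by decide +kernel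
theorem CandK00_28 : allR (0 + 28 * 50) 50 chkC = true := by decide +kernel
theorem CandK00_29 : allR (0 + 29 * 50) 50 chkC = true := by decide +kernel
theorem CandK00_30 : allR (0 + 30 * 50) 50 chkC = true := by decide +kernel
theorem CandK00_31 : allR (0 + 31 * 50) 50 chkC = true := by decide +kernel
theorem CandK00_32 : allR (0 + 32 * 50) 50 chkC = true := by decide +kernel
theorem CandK00_33 : allR (0 + 33 * 50) 50 chkC = true := by decide +kernel
theorem CandK00_34 : allR (0 + 34 * 50) 50 chkC = true := by decide +kernel
theorem CandK00_35 : allR (0 + 35 * 50) 50 chkC = true := by decide +kernel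
theorem CandK00_36 : allR (0 + 36 * 50) 50 chkC = true := by decide +kernel
theorem CandK00_37 : allR (0 + 37 * 50) 50 chkC = true := by decide +kernel
theorem CandK00_38 : allR (0 + 38 * 50) 50 chkC = true := by decide +kernel
theorem CandK00_39 : allR (0 + 39 * 50) 50 chkC = true := by decide +kernel

theorem CandK00_all : ∀ i, 0 ≤ i → i < 0 + 40 * 50 → chkC i = true := by
  apply of_slices' chkC 50 40 0
  intro s hs
  interval_cases s
  · exact CandK00_0
  · exact CandK00_1
  · exact CandK00_2
  · exact CandK00_3
  · exact CandK00_4
  · exact CandK00_5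
  · exact CandK00_6
  · exact CandK00_7
  · exact CandK00_8
  · exact CandK00_9
  · exact CandK00_10
  · exact CandK00_11
  · exact CandK00_12
  · exact CandK00_13
  · exact CandK00_14
  · exact CandK00_15
  · exact CandK00_16
  · exact CandK00_17
  · exact CandK00_18
  · exact CandK00_19
  · exact CandK00_20
  · exact CandK00_21
  · exact CandK00_22
  · exact CandK00_23
  · exact CandK00_24
  · exact CandK00_25
  · exact CandK00_26
  · exact CandK00_27
  · exact CandK00_28
  · exact CandK00_29
  · exact CandK00_30
  · exact CandK00_31
  · exact CandK00_32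
  · exact CandK00_33
  · exact CandK00_34
  · exact CandK00_35
  · exact CandK00_36
  · exact CandK00_37
  · exact CandK00_38
  · exact CandK00_39

end Cfsg.Agent.Helper17.Fi23Out
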