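import Cfsg.Agent.Helper17.Fi23Out.CandK00

/-! kernel checks of `chkC` on the points `2000 ≤ j < 4000` -/

set_option autoImplicit false
set_option linter.all false
set_option maxRecDepth 100000

namespace Cfsg.Agent.Helper17.Fi23Out

open Cfsg.Agent.Helper17.TCG

theorem CandK01_0 : allR (2000 + 0 * 50) 50 chkC = true := by decide +kernel
theorem CandK01_1 : allR (2000 + 1 * 50) 50 chkC = true := by decide +kernel
theorem CandK01_2 : allR (2000 + 2 * 50) 50 chkC = true := by decide +kernel
theorem CandK01_3 : allR (2000 + 3 * 50) 50 chkC = true := by decide +kernel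
theorem CandK01_4 : allR (2000 + 4 * 50) 50 chkC = true := by decide +kernel
theorem CandK01_5 : allR (2000 + 5 * 50) 50 chkC = true := by decide +kernel
theorem CandK01_6 : allR (2000 + 6 * 50) 50 chkC = true := by decide +kernel
theorem CandK01_7 : allR (2000 + 7 * 50) 50 chkC = true := by decide +kernel
theorem CandK01_8 : allR (2000 + 8 * 50) 50 chkC = true := by decide +kernel
theorem CandK01_9 : allR (2000 + 9 * 50) 50 chkC = true := by decide +kernel
theorem CandK01_10 : allR (2000 + 10 * 50) 50 chkC = true := by decide +kernel
theorem CandK01_11 : allR (2000 + 11 * 50) 50 chkC = true := by decide +kernel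
theorem CandK01_12 : allR (2000 + 12 * 50) 50 chkC = true := by decide +kernel
theorem CandK01_13 : allR (2000 + 13 * 50) 50 chkC = true := by decide +kernel
theorem CandK01_14 : allR (2000 + 14 * 50) 50 chkC = true := by decide +kernel
theorem CandK01_15 : allR (2000 + 15 * 50) 50 chkC = true := by decide +kernel
theorem CandK01_16 : allR (2000 + 16 * 50) 50 chkC = true := by decide +kernel
theorem CandK01_17 : allR (2000 + 17 * 50) 50 chkC = true := by decide +kernel
theorem CandK01_18 : allR (2000 + 18 * 50) 50 chkC = true := by decide +kernel
theorem CandK01_19 : allR (2000 + 19 * 50) 50 chkC = true := by decide +kernel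
theorem CandK01_20 : allR (2000 + 20 * 50) 50 chkC = true := by decide +kernel
theorem CandK01_21 : allR (2000 + 21 * 50) 50 chkC = true := by decide +kernel
theorem CandK01_22 : allR (2000 + 22 * 50) 50 chkC = true := by decide +kernel
theorem CandK01_23 : allR (2000 + 23 * 50) 50 chkC = true := by decide +kernel
theorem CandK01_24 : allR (2000 + 24 * 50) 50 chkC = true := by decide +kernel
theorem CandK01_25 : allR (2000 + 25 * 50) 50 chkC = true := by decide +kernel
theorem CandK01_26 : allR (2000 + 26 * 50) 50 chkC = true := by decide +kernel
theorem CandK01_27 : allR (2000 + 27 * 50) 50 chkC = true := by decide +kernel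
theorem CandK01_28 : allR (2000 + 28 * 50) 50 chkC = true := by decide +kernel
theorem CandK01_29 : allR (2000 + 29 * 50) 50 chkC = true := by decide +kernel
theorem CandK01_30 : allR (2000 + 30 * 50) 50 chkC = true := by decide +kernel
theorem CandK01_31 : allR (2000 + 31 * 50) 50 chkC = true := by decide +kernel
theorem CandK01_32 : allR (2000 + 32 * 50) 50 chkC = true := by decide +kernel
theorem CandK01_33 : allR (2000 + 33 * 50) 50 chkC = true := by decide +kernel
theorem CandK01_34 : allR (2000 + 34 * 50) 50 chkC = true := by decide +kernel
theorem CandK01_35 : allR (2000 + 35 * 50) 50 chkC = true := by decide +kernel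
theorem CandK01_36 : allR (2000 + 36 * 50) 50 chkC = true := by decide +kernel
theorem CandK01_37 : allR (2000 + 37 * 50) 50 chkC = true := by decide +kernel
theorem CandK01_38 : allR (2000 + 38 * 50) 50 chkC = true := by decide +kernel
theorem CandK01_39 : allR (2000 + 39 * 50) 50 chkC = true := by decide +kernel

theorem CandK01_all : ∀ i, 2000 ≤ i → i < 2000 + 40 * 50 → chkC i = true := by
  apply of_slices' chkC 50 40 2000
  intro s hs
  interval_cases s
  · exact CandK01_0
  · exact CandK01_1
  · exact CandK01_2
  · exact CandK01_3
  · exact CandK01_4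
  · exact CandK01_5
  · exact CandK01_6
  · exact CandK01_7
  · exact CandK01_8
  · exact CandK01_9
  · exact CandK01_10
  · exact CandK01_11
  · exact CandK01_12
  · exact CandK01_13
  · exact CandK01_14
  · exact CandK01_15
  · exact CandK01_16
  · exact CandK01_17
  · exact CandK01_18
  · exact CandK01_19
  · exact CandK01_20
  · exact CandK01_21
  · exact CandK01_22
  · exact CandK01_23
  · exact CandK01_24
  · exact CandK01_25
  · exact CandK01_26
  · exact CandK01_27
  · exact CandK01_28
  · exact CandK01_29
  · exact CandK01_30
  · exact CandK01_31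
  · exact CandK01_32
  · exact CandK01_33
  · exact CandK01_34
  · exact CandK01_35
  · exact CandK01_36
  · exact CandK01_37
  · exact CandK01_38
  · exact CandK01_39

end Cfsg.Agent.Helper17.Fi23Out
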