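import Cfsg.Agent.Helper17.Fi23Out.CandK01

/-! kernel checks of `chkC` on the points `4000 ≤ j < 6000` -/

set_option autoImplicit false
set_option linter.all false
set_option maxRecDepth 100000

namespace Cfsg.Agent.Helper17.Fi23Out

open Cfsg.Agent.Helper17.TCG

theorem CandK02_0 : allR (4000 + 0 * 50) 50 chkC = true := by decide +kernel
theorem CandK02_1 : allR (4000 + 1 * 50) 50 chkC = true := by decide +kernel
theorem CandK02_2 : allR (4000 + 2 * 50) 50 chkC = true := by decide +kernel
theorem CandK02_3 : allR (4000 + 3 * 50) 50 chkC = true := by decide +kernel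
theorem CandK02_4 : allR (4000 + 4 * 50) 50 chkC = true := by decide +kernel
theorem CandK02_5 : allR (4000 + 5 * 50) 50 chkC = true := by decide +kernel
theorem CandK02_6 : allR (4000 + 6 * 50) 50 chkC = true := by decide +kernel
theorem CandK02_7 : allR (4000 + 7 * 50) 50 chkC = true := by decide +kernel
theorem CandK02_8 : allR (4000 + 8 * 50) 50 chkC = true := by decide +kernel
theorem CandK02_9 : allR (4000 + 9 * 50) 50 chkC = true := by decide +kernel
theorem CandK02_10 : allR (4000 + 10 * 50) 50 chkC = true := by decide +kernel
theorem CandK02_11 : allR (4000 + 11 * 50) 50 chkC = true := by decide +kernel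
theorem CandK02_12 : allR (4000 + 12 * 50) 50 chkC = true := by decide +kernel
theorem CandK02_13 : allR (4000 + 13 * 50) 50 chkC = true := by decide +kernel
theorem CandK02_14 : allR (4000 + 14 * 50) 50 chkC = true := by decide +kernel
theorem CandK02_15 : allR (4000 + 15 * 50) 50 chkC = true := by decide +kernel
theorem CandK02_16 : allR (4000 + 16 * 50) 50 chkC = true := by decide +kernel
theorem CandK02_17 : allR (4000 + 17 * 50) 50 chkC = true := by decide +kernel
theorem CandK02_18 : allR (4000 + 18 * 50) 50 chkC = true := by decide +kernel
theorem CandK02_19 : allR (4000 + 19 * 50) 50 chkC = true := by decide +kernel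
theorem CandK02_20 : allR (4000 + 20 * 50) 50 chkC = true := by decide +kernel
theorem CandK02_21 : allR (4000 + 21 * 50) 50 chkC = true := by decide +kernel
theorem CandK02_22 : allR (4000 + 22 * 50) 50 chkC = true := by decide +kernel
theorem CandK02_23 : allR (4000 + 23 * 50) 50 chkC = true := by decide +kernel
theorem CandK02_24 : allR (4000 + 24 * 50) 50 chkC = true := by decide +kernel
theorem CandK02_25 : allR (4000 + 25 * 50) 50 chkC = true := by decide +kernel
theorem CandK02_26 : allR (4000 + 26 * 50) 50 chkC = true := by decide +kernel
theorem CandK02_27 : allR (4000 + 27 * 50) 50 chkC = true := by decide +kernel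
theorem CandK02_28 : allR (4000 + 28 * 50) 50 chkC = true := by decide +kernel
theorem CandK02_29 : allR (4000 + 29 * 50) 50 chkC = true := by decide +kernel
theorem CandK02_30 : allR (4000 + 30 * 50) 50 chkC = true := by decide +kernel
theorem CandK02_31 : allR (4000 + 31 * 50) 50 chkC = true := by decide +kernel
theorem CandK02_32 : allR (4000 + 32 * 50) 50 chkC = true := by decide +kernel
theorem CandK02_33 : allR (4000 + 33 * 50) 50 chkC = true := by decide +kernel
theorem CandK02_34 : allR (4000 + 34 * 50) 50 chkC = true := by decide +kernel
theorem CandK02_35 : allR (4000 + 35 * 50) 50 chkC = true := by decide +kernel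
theorem CandK02_36 : allR (4000 + 36 * 50) 50 chkC = true := by decide +kernel
theorem CandK02_37 : allR (4000 + 37 * 50) 50 chkC = true := by decide +kernel
theorem CandK02_38 : allR (4000 + 38 * 50) 50 chkC = true := by decide +kernel
theorem CandK02_39 : allR (4000 + 39 * 50) 50 chkC = true := by decide +kernel

theorem CandK02_all : ∀ i, 4000 ≤ i → i < 4000 + 40 * 50 → chkC i = true := by
  apply of_slices' chkC 50 40 4000
  intro s hs
  interval_cases s
  · exact CandK02_0
  · exact CandK02_1
  · exact CandK02_2
  · exact CandK02_3
  · exact CandK02_4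
  · exact CandK02_5
  · exact CandK02_6
  · exact CandK02_7
  · exact CandK02_8
  · exact CandK02_9
  · exact CandK02_10
  · exact CandK02_11
  · exact CandK02_12
  · exact CandK02_13
  · exact CandK02_14
  · exact CandK02_15
  · exact CandK02_16
  · exact CandK02_17
  · exact CandK02_18
  · exact CandK02_19
  · exact CandK02_20
  · exact CandK02_21
  · exact CandK02_22
  · exact CandK02_23
  · exact CandK02_24
  · exact CandK02_25
  · exact CandK02_26
  · exact CandK02_27
  · exact CandK02_28
  · exact CandK02_29
  · exact CandK02_30
  · exact CandK02_31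
  · exact CandK02_32
  · exact CandK02_33
  · exact CandK02_34
  · exact CandK02_35
  · exact CandK02_36
  · exact CandK02_37
  · exact CandK02_38
  · exact CandK02_39

end Cfsg.Agent.Helper17.Fi23Out
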