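import Cfsg.Agent.Helper17.Fi23Out.CandK02

/-! kernel checks of `chkC` on the points `6000 ≤ j < 8000` -/

set_option autoImplicit false
set_option linter.all false
set_option maxRecDepth 100000

namespace Cfsg.Agent.Helper17.Fi23Out

open Cfsg.Agent.Helper17.TCG

theorem CandK03_0 : allR (6000 + 0 * 50) 50 chkC = true := by decide +kernel
theorem CandK03_1 : allR (6000 + 1 * 50) 50 chkC = true := by decide +kernel
theorem CandK03_2 : allR (6000 + 2 * 50) 50 chkC = true := by decide +kernel
theorem CandK03_3 : allR (6000 + 3 * 50) 50 chkC = true := by decide +kernel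
theorem CandK03_4 : allR (6000 + 4 * 50) 50 chkC = true := by decide +kernel
theorem CandK03_5 : allR (6000 + 5 * 50) 50 chkC = true := by decide +kernel
theorem CandK03_6 : allR (6000 + 6 * 50) 50 chkC = true := by decide +kernel
theorem CandK03_7 : allR (6000 + 7 * 50) 50 chkC = true := by decide +kernel
theorem CandK03_8 : allR (6000 + 8 * 50) 50 chkC = true := by decide +kernel
theorem CandK03_9 : allR (6000 + 9 * 50) 50 chkC = true := by decide +kernel
theorem CandK03_10 : allR (6000 + 10 * 50) 50 chkC = true := by decide +kernel
theorem CandK03_11 : allR (6000 + 11 * 50) 50 chkC = true := by decide +kernel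
theorem CandK03_12 : allR (6000 + 12 * 50) 50 chkC = true := by decide +kernel
theorem CandK03_13 : allR (6000 + 13 * 50) 50 chkC = true := by decide +kernel
theorem CandK03_14 : allR (6000 + 14 * 50) 50 chkC = true := by decide +kernel
theorem CandK03_15 : allR (6000 + 15 * 50) 50 chkC = true := by decide +kernel
theorem CandK03_16 : allR (6000 + 16 * 50) 50 chkC = true := by decide +kernel
theorem CandK03_17 : allR (6000 + 17 * 50) 50 chkC = true := by decide +kernel
theorem CandK03_18 : allR (6000 + 18 * 50) 50 chkC = true := by decide +kernel
theorem CandK03_19 : allR (6000 + 19 * 50) 50 chkC = true := by decide +kernel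
theorem CandK03_20 : allR (6000 + 20 * 50) 50 chkC = true := by decide +kernel
theorem CandK03_21 : allR (6000 + 21 * 50) 50 chkC = true := by decide +kernel
theorem CandK03_22 : allR (6000 + 22 * 50) 50 chkC = true := by decide +kernel
theorem CandK03_23 : allR (6000 + 23 * 50) 50 chkC = true := by decide +kernel
theorem CandK03_24 : allR (6000 + 24 * 50) 50 chkC = true := by decide +kernel
theorem CandK03_25 : allR (6000 + 25 * 50) 50 chkC = true := by decide +kernel
theorem CandK03_26 : allR (6000 + 26 * 50) 50 chkC = true := by decide +kernel
theorem CandK03_27 : allR (6000 + 27 * 50) 50 chkC = true := by decide +kernel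
theorem CandK03_28 : allR (6000 + 28 * 50) 50 chkC = true := by decide +kernel
theorem CandK03_29 : allR (6000 + 29 * 50) 50 chkC = true := by decide +kernel
theorem CandK03_30 : allR (6000 + 30 * 50) 50 chkC = true := by decide +kernel
theorem CandK03_31 : allR (6000 + 31 * 50) 50 chkC = true := by decide +kernel
theorem CandK03_32 : allR (6000 + 32 * 50) 50 chkC = true := by decide +kernel
theorem CandK03_33 : allR (6000 + 33 * 50) 50 chkC = true := by decide +kernel
theorem CandK03_34 : allR (6000 + 34 * 50) 50 chkC = true := by decide +kernel
theorem CandK03_35 : allR (6000 + 35 * 50) 50 chkC = true := by decide +kernel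
theorem CandK03_36 : allR (6000 + 36 * 50) 50 chkC = true := by decide +kernel
theorem CandK03_37 : allR (6000 + 37 * 50) 50 chkC = true := by decide +kernel
theorem CandK03_38 : allR (6000 + 38 * 50) 50 chkC = true := by decide +kernel
theorem CandK03_39 : allR (6000 + 39 * 50) 50 chkC = true := by decide +kernel

theorem CandK03_all : ∀ i, 6000 ≤ i → i < 6000 + 40 * 50 → chkC i = true := by
  apply of_slices' chkC 50 40 6000
  intro s hs
  interval_cases s
  · exact CandK03_0
  · exact CandK03_1
  · exact CandK03_2
  · exact CandK03_3
  · exact CandK03_4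
  · exact CandK03_5
  · exact CandK03_6
  · exact CandK03_7
  · exact CandK03_8
  · exact CandK03_9
  · exact CandK03_10
  · exact CandK03_11
  · exact CandK03_12
  · exact CandK03_13
  · exact CandK03_14
  · exact CandK03_15
  · exact CandK03_16
  · exact CandK03_17
  · exact CandK03_18
  · exact CandK03_19
  · exact CandK03_20
  · exact CandK03_21
  · exact CandK03_22
  · exact CandK03_23
  · exact CandK03_24
  · exact CandK03_25
  · exact CandK03_26
  · exact CandK03_27
  · exact CandK03_28
  · exact CandK03_29
  · exact CandK03_30
  · exact CandK03_31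
  · exact CandK03_32
  · exact CandK03_33
  · exact CandK03_34
  · exact CandK03_35
  · exact CandK03_36
  · exact CandK03_37
  · exact CandK03_38
  · exact CandK03_39

end Cfsg.Agent.Helper17.Fi23Out
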