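import Cfsg.Agent.Helper17.Fi23Out.CandK03

/-! kernel checks of `chkC` on the points `8000 ≤ j < 10000` -/

set_option autoImplicit false
set_option linter.all false
set_option maxRecDepth 100000

namespace Cfsg.Agent.Helper17.Fi23Out

open Cfsg.Agent.Helper17.TCG

theorem CandK04_0 : allR (8000 + 0 * 50) 50 chkC = true := by decide +kernel
theorem CandK04_1 : allR (8000 + 1 * 50) 50 chkC = true := by decide +kernel
theorem CandK04_2 : allR (8000 + 2 * 50) 50 chkC = true := by decide +kernel
theorem CandK04_3 : allR (8000 + 3 * 50) 50 chkC = true := by decide +kernel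
theorem CandK04_4 : allR (8000 + 4 * 50) 50 chkC = true := by decide +kernel
theorem CandK04_5 : allR (8000 + 5 * 50) 50 chkC = true := by decide +kernel
theorem CandK04_6 : allR (8000 + 6 * 50) 50 chkC = true := by decide +kernel
theorem CandK04_7 : allR (8000 + 7 * 50) 50 chkC = true := by decide +kernel
theorem CandK04_8 : allR (8000 + 8 * 50) 50 chkC = true := by decide +kernel
theorem CandK04_9 : allR (8000 + 9 * 50) 50 chkC = true := by decide +kernel
theorem CandK04_10 : allR (8000 + 10 * 50) 50 chkC = true := by decide +kernel
theorem CandK04_11 : allR (8000 + 11 * 50) 50 chkC = true := by decide +kernel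
theorem CandK04_12 : allR (8000 + 12 * 50) 50 chkC = true := by decide +kernel
theorem CandK04_13 : allR (8000 + 13 * 50) 50 chkC = true := by decide +kernel
theorem CandK04_14 : allR (8000 + 14 * 50) 50 chkC = true := by decide +kernel
theorem CandK04_15 : allR (8000 + 15 * 50) 50 chkC = true := by decide +kernel
theorem CandK04_16 : allR (8000 + 16 * 50) 50 chkC = true := by decide +kernel
theorem CandK04_17 : allR (8000 + 17 * 50) 50 chkC = true := by decide +kernel
theorem CandK04_18 : allR (8000 + 18 * 50) 50 chkC = true := by decide +kernel
theorem CandK04_19 : allR (8000 + 19 * 50) 50 chkC = true := by decide +kernel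
theorem CandK04_20 : allR (8000 + 20 * 50) 50 chkC = true := by decide +kernel
theorem CandK04_21 : allR (8000 + 21 * 50) 50 chkC = true := by decide +kernel
theorem CandK04_22 : allR (8000 + 22 * 50) 50 chkC = true := by decide +kernel
theorem CandK04_23 : allR (8000 + 23 * 50) 50 chkC = true := by decide +kernel
theorem CandK04_24 : allR (8000 + 24 * 50) 50 chkC = true := by decide +kernel
theorem CandK04_25 : allR (8000 + 25 * 50) 50 chkC = true := by decide +kernel
theorem CandK04_26 : allR (8000 + 26 * 50) 50 chkC = true := by decide +kernel
theorem CandK04_27 : allR (8000 + 27 * 50) 50 chkC = true := by decide +kernel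
theorem CandK04_28 : allR (8000 + 28 * 50) 50 chkC = true := by decide +kernel
theorem CandK04_29 : allR (8000 + 29 * 50) 50 chkC = true := by decide +kernel
theorem CandK04_30 : allR (8000 + 30 * 50) 50 chkC = true := by decide +kernel
theorem CandK04_31 : allR (8000 + 31 * 50) 50 chkC = true := by decide +kernel
theorem CandK04_32 : allR (8000 + 32 * 50) 50 chkC = true := by decide +kernel
theorem CandK04_33 : allR (8000 + 33 * 50) 50 chkC = true := by decide +kernel
theorem CandK04_34 : allR (8000 + 34 * 50) 50 chkC = true := by decide +kernel
theorem CandK04_35 : allR (8000 + 35 * 50) 50 chkC = true := by decide +kernel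
theorem CandK04_36 : allR (8000 + 36 * 50) 50 chkC = true := by decide +kernel
theorem CandK04_37 : allR (8000 + 37 * 50) 50 chkC = true := by decide +kernel
theorem CandK04_38 : allR (8000 + 38 * 50) 50 chkC = true := by decide +kernel
theorem CandK04_39 : allR (8000 + 39 * 50) 50 chkC = true := by decide +kernel

theorem CandK04_all : ∀ i, 8000 ≤ i → i < 8000 + 40 * 50 → chkC i = true := by
  apply of_slices' chkC 50 40 8000
  intro s hs
  interval_cases s
  · exact CandK04_0
  · exact CandK04_1
  · exact CandK04_2
  · exact CandK04_3
  · exact CandK04_4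
  · exact CandK04_5
  · exact CandK04_6
  · exact CandK04_7
  · exact CandK04_8
  · exact CandK04_9
  · exact CandK04_10
  · exact CandK04_11
  · exact CandK04_12
  · exact CandK04_13
  · exact CandK04_14
  · exact CandK04_15
  · exact CandK04_16
  · exact CandK04_17
  · exact CandK04_18
  · exact CandK04_19
  · exact CandK04_20
  · exact CandK04_21
  · exact CandK04_22
  · exact CandK04_23
  · exact CandK04_24
  · exact CandK04_25
  · exact CandK04_26
  · exact CandK04_27
  · exact CandK04_28
  · exact CandK04_29
  · exact CandK04_30
  · exact CandK04_31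
  · exact CandK04_32
  · exact CandK04_33
  · exact CandK04_34
  · exact CandK04_35
  · exact CandK04_36
  · exact CandK04_37
  · exact CandK04_38
  · exact CandK04_39

end Cfsg.Agent.Helper17.Fi23Out
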