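import Cfsg.Agent.Helper17.Fi23Out.CandK04

/-! kernel checks of `chkC` on the points `10000 ≤ j < 12000` -/

set_option autoImplicit false
set_option linter.all false
set_option maxRecDepth 100000

namespace Cfsg.Agent.Helper17.Fi23Out

open Cfsg.Agent.Helper17.TCG

theorem CandK05_0 : allR (10000 + 0 * 50) 50 chkC = true := by decide +kernel
theorem CandK05_1 : allR (10000 + 1 * 50) 50 chkC = true := by decide +kernel
theorem CandK05_2 : allR (10000 + 2 * 50) 50 chkC = true := by decide +kernel
theorem CandK05_3 : allR (10000 + 3 * 50) 50 chkC = true := by decide +kernel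
theorem CandK05_4 : allR (10000 + 4 * 50) 50 chkC = true := by decide +kernel
theorem CandK05_5 : allR (10000 + 5 * 50) 50 chkC = true := by decide +kernel
theorem CandK05_6 : allR (10000 + 6 * 50) 50 chkC = true := by decide +kernel
theorem CandK05_7 : allR (10000 + 7 * 50) 50 chkC = true := by decide +kernel
theorem CandK05_8 : allR (10000 + 8 * 50) 50 chkC = true := by decide +kernel
theorem CandK05_9 : allR (10000 + 9 * 50) 50 chkC = true := by decide +kernel
theorem CandK05_10 : allR (10000 + 10 * 50) 50 chkC = true := by decide +kernel
theorem CandK05_11 : allR (10000 + 11 * 50) 50 chkC = true := by decide +kernel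
theorem CandK05_12 : allR (10000 + 12 * 50) 50 chkC = true := by decide +kernel
theorem CandK05_13 : allR (10000 + 13 * 50) 50 chkC = true := by decide +kernel
theorem CandK05_14 : allR (10000 + 14 * 50) 50 chkC = true := by decide +kernel
theorem CandK05_15 : allR (10000 + 15 * 50) 50 chkC = true := by decide +kernel
theorem CandK05_16 : allR (10000 + 16 * 50) 50 chkC = true := by decide +kernel
theorem CandK05_17 : allR (10000 + 17 * 50) 50 chkC = true := by decide +kernel
theorem CandK05_18 : allR (10000 + 18 * 50) 50 chkC = true := by decide +kernel
theorem CandK05_19 : allR (10000 + 19 * 50) 50 chkC = true := by decide +kernel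
theorem CandK05_20 : allR (10000 + 20 * 50) 50 chkC = true := by decide +kernel
theorem CandK05_21 : allR (10000 + 21 * 50) 50 chkC = true := by decide +kernel
theorem CandK05_22 : allR (10000 + 22 * 50) 50 chkC = true := by decide +kernel
theorem CandK05_23 : allR (10000 + 23 * 50) 50 chkC = true := by decide +kernel
theorem CandK05_24 : allR (10000 + 24 * 50) 50 chkC = true := by decide +kernel
theorem CandK05_25 : allR (10000 + 25 * 50) 50 chkC = true := by decide +kernel
theorem CandK05_26 : allR (10000 + 26 * 50) 50 chkC = true := by decide +kernel
theorem CandK05_27 : allR (10000 + 27 * 50) 50 chkC = true := by decide +kernel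
theorem CandK05_28 : allR (10000 + 28 * 50) 50 chkC = true := by decide +kernel
theorem CandK05_29 : allR (10000 + 29 * 50) 50 chkC = true := by decide +kernel
theorem CandK05_30 : allR (10000 + 30 * 50) 50 chkC = true := by decide +kernel
theorem CandK05_31 : allR (10000 + 31 * 50) 50 chkC = true := by decide +kernel
theorem CandK05_32 : allR (10000 + 32 * 50) 50 chkC = true := by decide +kernel
theorem CandK05_33 : allR (10000 + 33 * 50) 50 chkC = true := by decide +kernel
theorem CandK05_34 : allR (10000 + 34 * 50) 50 chkC = true := by decide +kernel
theorem CandK05_35 : allR (10000 + 35 * 50) 50 chkC = true := by decide +kernel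
theorem CandK05_36 : allR (10000 + 36 * 50) 50 chkC = true := by decide +kernel
theorem CandK05_37 : allR (10000 + 37 * 50) 50 chkC = true := by decide +kernel
theorem CandK05_38 : allR (10000 + 38 * 50) 50 chkC = true := by decide +kernel
theorem CandK05_39 : allR (10000 + 39 * 50) 50 chkC = true := by decide +kernel

theorem CandK05_all : ∀ i, 10000 ≤ i → i < 10000 + 40 * 50 → chkC i = true := by
  apply of_slices' chkC 50 40 10000
  intro s hs
  interval_cases s
  · exact CandK05_0
  · exact CandK05_1
  · exact CandK05_2
  · exact CandK05_3
  · exact CandK05_4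
  · exact CandK05_5
  · exact CandK05_6
  · exact CandK05_7
  · exact CandK05_8
  · exact CandK05_9
  · exact CandK05_10
  · exact CandK05_11
  · exact CandK05_12
  · exact CandK05_13
  · exact CandK05_14
  · exact CandK05_15
  · exact CandK05_16
  · exact CandK05_17
  · exact CandK05_18
  · exact CandK05_19
  · exact CandK05_20
  · exact CandK05_21
  · exact CandK05_22
  · exact CandK05_23
  · exact CandK05_24
  · exact CandK05_25
  · exact CandK05_26
  · exact CandK05_27
  · exact CandK05_28
  · exact CandK05_29
  · exact CandK05_30
  · exact CandK05_31
  · exact CandK05_32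
  · exact CandK05_33
  · exact CandK05_34
  · exact CandK05_35
  · exact CandK05_36
  · exact CandK05_37
  · exact CandK05_38
  · exact CandK05_39

end Cfsg.Agent.Helper17.Fi23Out
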