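import Cfsg.Agent.Helper17.Fi23Out.CandK05

/-! kernel checks of `chkC` on the points `12000 ≤ j < 14000` -/

set_option autoImplicit false
set_option linter.all false
set_option maxRecDepth 100000

namespace Cfsg.Agent.Helper17.Fi23Out

open Cfsg.Agent.Helper17.TCG

theorem CandK06_0 : allR (12000 + 0 * 50) 50 chkC = true := by decide +kernel
theorem CandK06_1 : allR (12000 + 1 * 50) 50 chkC = true := by decide +kernel
theorem CandK06_2 : allR (12000 + 2 * 50) 50 chkC = true := by decide +kernel
theorem CandK06_3 : allR (12000 + 3 * 50) 50 chkC = true := by decide +kernel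
theorem CandK06_4 : allR (12000 + 4 * 50) 50 chkC = true := by decide +kernel
theorem CandK06_5 : allR (12000 + 5 * 50) 50 chkC = true := by decide +kernel
theorem CandK06_6 : allR (12000 + 6 * 50) 50 chkC = true := by decide +kernel
theorem CandK06_7 : allR (12000 + 7 * 50) 50 chkC = true := by decide +kernel
theorem CandK06_8 : allR (12000 + 8 * 50) 50 chkC = true := by decide +kernel
theorem CandK06_9 : allR (12000 + 9 * 50) 50 chkC = true := by decide +kernel
theorem CandK06_10 : allR (12000 + 10 * 50) 50 chkC = true := by decide +kernel
theorem CandK06_11 : allR (12000 + 11 * 50) 50 chkC = true := by decide +kernel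
theorem CandK06_12 : allR (12000 + 12 * 50) 50 chkC = true := by decide +kernel
theorem CandK06_13 : allR (12000 + 13 * 50) 50 chkC = true := by decide +kernel
theorem CandK06_14 : allR (12000 + 14 * 50) 50 chkC = true := by decide +kernel
theorem CandK06_15 : allR (12000 + 15 * 50) 50 chkC = true := by decide +kernel
theorem CandK06_16 : allR (12000 + 16 * 50) 50 chkC = true := by decide +kernel
theorem CandK06_17 : allR (12000 + 17 * 50) 50 chkC = true := by decide +kernel
theorem CandK06_18 : allR (12000 + 18 * 50) 50 chkC = true := by decide +kernel
theorem CandK06_19 : allR (12000 + 19 * 50) 50 chkC = true := by decide +kernel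
theorem CandK06_20 : allR (12000 + 20 * 50) 50 chkC = true := by decide +kernel
theorem CandK06_21 : allR (12000 + 21 * 50) 50 chkC = true := by decide +kernel
theorem CandK06_22 : allR (12000 + 22 * 50) 50 chkC = true := by decide +kernel
theorem CandK06_23 : allR (12000 + 23 * 50) 50 chkC = true := by decide +kernel
theorem CandK06_24 : allR (12000 + 24 * 50) 50 chkC = true := by decide +kernel
theorem CandK06_25 : allR (12000 + 25 * 50) 50 chkC = true := by decide +kernel
theorem CandK06_26 : allR (12000 + 26 * 50) 50 chkC = true := by decide +kernel
theorem CandK06_27 : allR (12000 + 27 * 50) 50 chkC = true := by decide +kernel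
theorem CandK06_28 : allR (12000 + 28 * 50) 50 chkC = true := by decide +kernel
theorem CandK06_29 : allR (12000 + 29 * 50) 50 chkC = true := by decide +kernel
theorem CandK06_30 : allR (12000 + 30 * 50) 50 chkC = true := by decide +kernel
theorem CandK06_31 : allR (12000 + 31 * 50) 50 chkC = true := by decide +kernel
theorem CandK06_32 : allR (12000 + 32 * 50) 50 chkC = true := by decide +kernel
theorem CandK06_33 : allR (12000 + 33 * 50) 50 chkC = true := by decide +kernel
theorem CandK06_34 : allR (12000 + 34 * 50) 50 chkC = true := by decide +kernel
theorem CandK06_35 : allR (12000 + 35 * 50) 50 chkC = true := by decide +kernel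
theorem CandK06_36 : allR (12000 + 36 * 50) 50 chkC = true := by decide +kernel
theorem CandK06_37 : allR (12000 + 37 * 50) 50 chkC = true := by decide +kernel
theorem CandK06_38 : allR (12000 + 38 * 50) 50 chkC = true := by decide +kernel
theorem CandK06_39 : allR (12000 + 39 * 50) 50 chkC = true := by decide +kernel

theorem CandK06_all : ∀ i, 12000 ≤ i → i < 12000 + 40 * 50 → chkC i = true := by
  apply of_slices' chkC 50 40 12000
  intro s hs
  interval_cases s
  · exact CandK06_0
  · exact CandK06_1
  · exact CandK06_2
  · exact CandK06_3
  · exact CandK06_4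
  · exact CandK06_5
  · exact CandK06_6
  · exact CandK06_7
  · exact CandK06_8
  · exact CandK06_9
  · exact CandK06_10
  · exact CandK06_11
  · exact CandK06_12
  · exact CandK06_13
  · exact CandK06_14
  · exact CandK06_15
  · exact CandK06_16
  · exact CandK06_17
  · exact CandK06_18
  · exact CandK06_19
  · exact CandK06_20
  · exact CandK06_21
  · exact CandK06_22
  · exact CandK06_23
  · exact CandK06_24
  · exact CandK06_25
  · exact CandK06_26
  · exact CandK06_27
  · exact CandK06_28
  · exact CandK06_29
  · exact CandK06_30
  · exact CandK06_31
  · exact CandK06_32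
  · exact CandK06_33
  · exact CandK06_34
  · exact CandK06_35
  · exact CandK06_36
  · exact CandK06_37
  · exact CandK06_38
  · exact CandK06_39

end Cfsg.Agent.Helper17.Fi23Out
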