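import Cfsg.Agent.Helper17.Fi23Out.CandK06

/-! kernel checks of `chkC` on the points `14000 ≤ j < 16000` -/

set_option autoImplicit false
set_option linter.all false
set_option maxRecDepth 100000

namespace Cfsg.Agent.Helper17.Fi23Out

open Cfsg.Agent.Helper17.TCG

theorem CandK07_0 : allR (14000 + 0 * 50) 50 chkC = true := by decide +kernel
theorem CandK07_1 : allR (14000 + 1 * 50) 50 chkC = true := by decide +kernel
theorem CandK07_2 : allR (14000 + 2 * 50) 50 chkC = true := by decide +kernel
theorem CandK07_3 : allR (14000 + 3 * 50) 50 chkC = true := by decide +kernel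
theorem CandK07_4 : allR (14000 + 4 * 50) 50 chkC = true := by decide +kernel
theorem CandK07_5 : allR (14000 + 5 * 50) 50 chkC = true := by decide +kernel
theorem CandK07_6 : allR (14000 + 6 * 50) 50 chkC = true := by decide +kernel
theorem CandK07_7 : allR (14000 + 7 * 50) 50 chkC = true := by decide +kernel
theorem CandK07_8 : allR (14000 + 8 * 50) 50 chkC = true := by decide +kernel
theorem CandK07_9 : allR (14000 + 9 * 50) 50 chkC = true := by decide +kernel
theorem CandK07_10 : allR (14000 + 10 * 50) 50 chkC = true := by decide +kernel
theorem CandK07_11 : allR (14000 + 11 * 50) 50 chkC = true := by decide +kernel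
theorem CandK07_12 : allR (14000 + 12 * 50) 50 chkC = true := by decide +kernel
theorem CandK07_13 : allR (14000 + 13 * 50) 50 chkC = true := by decide +kernel
theorem CandK07_14 : allR (14000 + 14 * 50) 50 chkC = true := by decide +kernel
theorem CandK07_15 : allR (14000 + 15 * 50) 50 chkC = true := by decide +kernel
theorem CandK07_16 : allR (14000 + 16 * 50) 50 chkC = true := by decide +kernel
theorem CandK07_17 : allR (14000 + 17 * 50) 50 chkC = true := by decide +kernel
theorem CandK07_18 : allR (14000 + 18 * 50) 50 chkC = true := by decide +kernel
theorem CandK07_19 : allR (14000 + 19 * 50) 50 chkC = true := by decide +kernel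
theorem CandK07_20 : allR (14000 + 20 * 50) 50 chkC = true := by decide +kernel
theorem CandK07_21 : allR (14000 + 21 * 50) 50 chkC = true := by decide +kernel
theorem CandK07_22 : allR (14000 + 22 * 50) 50 chkC = true := by decide +kernel
theorem CandK07_23 : allR (14000 + 23 * 50) 50 chkC = true := by decide +kernel
theorem CandK07_24 : allR (14000 + 24 * 50) 50 chkC = true := by decide +kernel
theorem CandK07_25 : allR (14000 + 25 * 50) 50 chkC = true := by decide +kernel
theorem CandK07_26 : allR (14000 + 26 * 50) 50 chkC = true := by decide +kernel
theorem CandK07_27 : allR (14000 + 27 * 50) 50 chkC = true := by decide +kernel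
theorem CandK07_28 : allR (14000 + 28 * 50) 50 chkC = true := by decide +kernel
theorem CandK07_29 : allR (14000 + 29 * 50) 50 chkC = true := by decide +kernel
theorem CandK07_30 : allR (14000 + 30 * 50) 50 chkC = true := by decide +kernel
theorem CandK07_31 : allR (14000 + 31 * 50) 50 chkC = true := by decide +kernel
theorem CandK07_32 : allR (14000 + 32 * 50) 50 chkC = true := by decide +kernel
theorem CandK07_33 : allR (14000 + 33 * 50) 50 chkC = true := by decide +kernel
theorem CandK07_34 : allR (14000 + 34 * 50) 50 chkC = true := by decide +kernel
theorem CandK07_35 : allR (14000 + 35 * 50) 50 chkC = true := by decide +kernel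
theorem CandK07_36 : allR (14000 + 36 * 50) 50 chkC = true := by decide +kernel
theorem CandK07_37 : allR (14000 + 37 * 50) 50 chkC = true := by decide +kernel
theorem CandK07_38 : allR (14000 + 38 * 50) 50 chkC = true := by decide +kernel
theorem CandK07_39 : allR (14000 + 39 * 50) 50 chkC = true := by decide +kernel

theorem CandK07_all : ∀ i, 14000 ≤ i → i < 14000 + 40 * 50 → chkC i = true := by
  apply of_slices' chkC 50 40 14000
  intro s hs
  interval_cases s
  · exact CandK07_0
  · exact CandK07_1
  · exact CandK07_2
  · exact CandK07_3
  · exact CandK07_4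
  · exact CandK07_5
  · exact CandK07_6
  · exact CandK07_7
  · exact CandK07_8
  · exact CandK07_9
  · exact CandK07_10
  · exact CandK07_11
  · exact CandK07_12
  · exact CandK07_13
  · exact CandK07_14
  · exact CandK07_15
  · exact CandK07_16
  · exact CandK07_17
  · exact CandK07_18
  · exact CandK07_19
  · exact CandK07_20
  · exact CandK07_21
  · exact CandK07_22
  · exact CandK07_23
  · exact CandK07_24
  · exact CandK07_25
  · exact CandK07_26
  · exact CandK07_27
  · exact CandK07_28
  · exact CandK07_29
  · exact CandK07_30
  · exact CandK07_31
  · exact CandK07_32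
  · exact CandK07_33
  · exact CandK07_34
  · exact CandK07_35
  · exact CandK07_36
  · exact CandK07_37
  · exact CandK07_38
  · exact CandK07_39

end Cfsg.Agent.Helper17.Fi23Out
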