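import Cfsg.Agent.Helper17.Fi23Out.CandK07

/-! kernel checks of `chkC` on the points `16000 ≤ j < 18000` -/

set_option autoImplicit false
set_option linter.all false
set_option maxRecDepth 100000

namespace Cfsg.Agent.Helper17.Fi23Out

open Cfsg.Agent.Helper17.TCG

theorem CandK08_0 : allR (16000 + 0 * 50) 50 chkC = true := by decide +kernel
theorem CandK08_1 : allR (16000 + 1 * 50) 50 chkC = true := by decide +kernel
theorem CandK08_2 : allR (16000 + 2 * 50) 50 chkC = true := by decide +kernel
theorem CandK08_3 : allR (16000 + 3 * 50) 50 chkC = true := by decide +kernel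
theorem CandK08_4 : allR (16000 + 4 * 50) 50 chkC = true := by decide +kernel
theorem CandK08_5 : allR (16000 + 5 * 50) 50 chkC = true := by decide +kernel
theorem CandK08_6 : allR (16000 + 6 * 50) 50 chkC = true := by decide +kernel
theorem CandK08_7 : allR (16000 + 7 * 50) 50 chkC = true := by decide +kernel
theorem CandK08_8 : allR (16000 + 8 * 50) 50 chkC = true := by decide +kernel
theorem CandK08_9 : allR (16000 + 9 * 50) 50 chkC = true := by decide +kernel
theorem CandK08_10 : allR (16000 + 10 * 50) 50 chkC = true := by decide +kernel
theorem CandK08_11 : allR (16000 + 11 * 50) 50 chkC = true := by decide +kernel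
theorem CandK08_12 : allR (16000 + 12 * 50) 50 chkC = true := by decide +kernel
theorem CandK08_13 : allR (16000 + 13 * 50) 50 chkC = true := by decide +kernel
theorem CandK08_14 : allR (16000 + 14 * 50) 50 chkC = true := by decide +kernel
theorem CandK08_15 : allR (16000 + 15 * 50) 50 chkC = true := by decide +kernel
theorem CandK08_16 : allR (16000 + 16 * 50) 50 chkC = true := by decide +kernel
theorem CandK08_17 : allR (16000 + 17 * 50) 50 chkC = true := by decide +kernel
theorem CandK08_18 : allR (16000 + 18 * 50) 50 chkC = true := by decide +kernel
theorem CandK08_19 : allR (16000 + 19 * 50) 50 chkC = true := by decide +kernel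
theorem CandK08_20 : allR (16000 + 20 * 50) 50 chkC = true := by decide +kernel
theorem CandK08_21 : allR (16000 + 21 * 50) 50 chkC = true := by decide +kernel
theorem CandK08_22 : allR (16000 + 22 * 50) 50 chkC = true := by decide +kernel
theorem CandK08_23 : allR (16000 + 23 * 50) 50 chkC = true := by decide +kernel
theorem CandK08_24 : allR (16000 + 24 * 50) 50 chkC = true := by decide +kernel
theorem CandK08_25 : allR (16000 + 25 * 50) 50 chkC = true := by decide +kernel
theorem CandK08_26 : allR (16000 + 26 * 50) 50 chkC = true := by decide +kernel
theorem CandK08_27 : allR (16000 + 27 * 50) 50 chkC = true := by decide +kernel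
theorem CandK08_28 : allR (16000 + 28 * 50) 50 chkC = true := by decide +kernel
theorem CandK08_29 : allR (16000 + 29 * 50) 50 chkC = true := by decide +kernel
theorem CandK08_30 : allR (16000 + 30 * 50) 50 chkC = true := by decide +kernel
theorem CandK08_31 : allR (16000 + 31 * 50) 50 chkC = true := by decide +kernel
theorem CandK08_32 : allR (16000 + 32 * 50) 50 chkC = true := by decide +kernel
theorem CandK08_33 : allR (16000 + 33 * 50) 50 chkC = true := by decide +kernel
theorem CandK08_34 : allR (16000 + 34 * 50) 50 chkC = true := by decide +kernel
theorem CandK08_35 : allR (16000 + 35 * 50) 50 chkC = true := by decide +kernel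
theorem CandK08_36 : allR (16000 + 36 * 50) 50 chkC = true := by decide +kernel
theorem CandK08_37 : allR (16000 + 37 * 50) 50 chkC = true := by decide +kernel
theorem CandK08_38 : allR (16000 + 38 * 50) 50 chkC = true := by decide +kernel
theorem CandK08_39 : allR (16000 + 39 * 50) 50 chkC = true := by decide +kernel

theorem CandK08_all : ∀ i, 16000 ≤ i → i < 16000 + 40 * 50 → chkC i = true := by
  apply of_slices' chkC 50 40 16000
  intro s hs
  interval_cases s
  · exact CandK08_0
  · exact CandK08_1
  · exact CandK08_2
  · exact CandK08_3
  · exact CandK08_4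
  · exact CandK08_5
  · exact CandK08_6
  · exact CandK08_7
  · exact CandK08_8
  · exact CandK08_9
  · exact CandK08_10
  · exact CandK08_11
  · exact CandK08_12
  · exact CandK08_13
  · exact CandK08_14
  · exact CandK08_15
  · exact CandK08_16
  · exact CandK08_17
  · exact CandK08_18
  · exact CandK08_19
  · exact CandK08_20
  · exact CandK08_21
  · exact CandK08_22
  · exact CandK08_23
  · exact CandK08_24
  · exact CandK08_25
  · exact CandK08_26
  · exact CandK08_27
  · exact CandK08_28
  · exact CandK08_29
  · exact CandK08_30
  · exact CandK08_31
  · exact CandK08_32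
  · exact CandK08_33
  · exact CandK08_34
  · exact CandK08_35
  · exact CandK08_36
  · exact CandK08_37
  · exact CandK08_38
  · exact CandK08_39

end Cfsg.Agent.Helper17.Fi23Out
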