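import Cfsg.Agent.Helper17.Fi23Out.CandK08

/-! kernel checks of `chkC` on the points `18000 ≤ j < 20000` -/

set_option autoImplicit false
set_option linter.all false
set_option maxRecDepth 100000

namespace Cfsg.Agent.Helper17.Fi23Out

open Cfsg.Agent.Helper17.TCG

theorem CandK09_0 : allR (18000 + 0 * 50) 50 chkC = true := by decide +kernel
theorem CandK09_1 : allR (18000 + 1 * 50) 50 chkC = true := by decide +kernel
theorem CandK09_2 : allR (18000 + 2 * 50) 50 chkC = true := by decide +kernel
theorem CandK09_3 : allR (18000 + 3 * 50) 50 chkC = true := by decide +kernel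
theorem CandK09_4 : allR (18000 + 4 * 50) 50 chkC = true := by decide +kernel
theorem CandK09_5 : allR (18000 + 5 * 50) 50 chkC = true := by decide +kernel
theorem CandK09_6 : allR (18000 + 6 * 50) 50 chkC = true := by decide +kernel
theorem CandK09_7 : allR (18000 + 7 * 50) 50 chkC = true := by decide +kernel
theorem CandK09_8 : allR (18000 + 8 * 50) 50 chkC = true := by decide +kernel
theorem CandK09_9 : allR (18000 + 9 * 50) 50 chkC = true := by decide +kernel
theorem CandK09_10 : allR (18000 + 10 * 50) 50 chkC = true := by decide +kernel
theorem CandK09_11 : allR (18000 + 11 * 50) 50 chkC = true := by decide +kernel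
theorem CandK09_12 : allR (18000 + 12 * 50) 50 chkC = true := by decide +kernel
theorem CandK09_13 : allR (18000 + 13 * 50) 50 chkC = true := by decide +kernel
theorem CandK09_14 : allR (18000 + 14 * 50) 50 chkC = true := by decide +kernel
theorem CandK09_15 : allR (18000 + 15 * 50) 50 chkC = true := by decide +kernel
theorem CandK09_16 : allR (18000 + 16 * 50) 50 chkC = true := by decide +kernel
theorem CandK09_17 : allR (18000 + 17 * 50) 50 chkC = true := by decide +kernel
theorem CandK09_18 : allR (18000 + 18 * 50) 50 chkC = true := by decide +kernel
theorem CandK09_19 : allR (18000 + 19 * 50) 50 chkC = true := by decide +kernel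
theorem CandK09_20 : allR (18000 + 20 * 50) 50 chkC = true := by decide +kernel
theorem CandK09_21 : allR (18000 + 21 * 50) 50 chkC = true := by decide +kernel
theorem CandK09_22 : allR (18000 + 22 * 50) 50 chkC = true := by decide +kernel
theorem CandK09_23 : allR (18000 + 23 * 50) 50 chkC = true := by decide +kernel
theorem CandK09_24 : allR (18000 + 24 * 50) 50 chkC = true := by decide +kernel
theorem CandK09_25 : allR (18000 + 25 * 50) 50 chkC = true := by decide +kernel
theorem CandK09_26 : allR (18000 + 26 * 50) 50 chkC = true := by decide +kernel
theorem CandK09_27 : allR (18000 + 27 * 50) 50 chkC = true := by decide +kernel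
theorem CandK09_28 : allR (18000 + 28 * 50) 50 chkC = true := by decide +kernel
theorem CandK09_29 : allR (18000 + 29 * 50) 50 chkC = true := by decide +kernel
theorem CandK09_30 : allR (18000 + 30 * 50) 50 chkC = true := by decide +kernel
theorem CandK09_31 : allR (18000 + 31 * 50) 50 chkC = true := by decide +kernel
theorem CandK09_32 : allR (18000 + 32 * 50) 50 chkC = true := by decide +kernel
theorem CandK09_33 : allR (18000 + 33 * 50) 50 chkC = true := by decide +kernel
theorem CandK09_34 : allR (18000 + 34 * 50) 50 chkC = true := by decide +kernel
theorem CandK09_35 : allR (18000 + 35 * 50) 50 chkC = true := by decide +kernel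
theorem CandK09_36 : allR (18000 + 36 * 50) 50 chkC = true := by decide +kernel
theorem CandK09_37 : allR (18000 + 37 * 50) 50 chkC = true := by decide +kernel
theorem CandK09_38 : allR (18000 + 38 * 50) 50 chkC = true := by decide +kernel
theorem CandK09_39 : allR (18000 + 39 * 50) 50 chkC = true := by decide +kernel

theorem CandK09_all : ∀ i, 18000 ≤ i → i < 18000 + 40 * 50 → chkC i = true := by
  apply of_slices' chkC 50 40 18000
  intro s hs
  interval_cases s
  · exact CandK09_0
  · exact CandK09_1
  · exact CandK09_2
  · exact CandK09_3
  · exact CandK09_4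
  · exact CandK09_5
  · exact CandK09_6
  · exact CandK09_7
  · exact CandK09_8
  · exact CandK09_9
  · exact CandK09_10
  · exact CandK09_11
  · exact CandK09_12
  · exact CandK09_13
  · exact CandK09_14
  · exact CandK09_15
  · exact CandK09_16
  · exact CandK09_17
  · exact CandK09_18
  · exact CandK09_19
  · exact CandK09_20
  · exact CandK09_21
  · exact CandK09_22
  · exact CandK09_23
  · exact CandK09_24
  · exact CandK09_25
  · exact CandK09_26
  · exact CandK09_27
  · exact CandK09_28
  · exact CandK09_29
  · exact CandK09_30
  · exact CandK09_31
  · exact CandK09_32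
  · exact CandK09_33
  · exact CandK09_34
  · exact CandK09_35
  · exact CandK09_36
  · exact CandK09_37
  · exact CandK09_38
  · exact CandK09_39

end Cfsg.Agent.Helper17.Fi23Out
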