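import Cfsg.Agent.Helper17.Fi23Out.CandK09

/-! kernel checks of `chkC` on the points `20000 ≤ j < 22000` -/

set_option autoImplicit false
set_option linter.all false
set_option maxRecDepth 100000

namespace Cfsg.Agent.Helper17.Fi23Out

open Cfsg.Agent.Helper17.TCG

theorem CandK10_0 : allR (20000 + 0 * 50) 50 chkC = true := by decide +kernel
theorem CandK10_1 : allR (20000 + 1 * 50) 50 chkC = true := by decide +kernel
theorem CandK10_2 : allR (20000 + 2 * 50) 50 chkC = true := by decide +kernel
theorem CandK10_3 : allR (20000 + 3 * 50) 50 chkC = true := by decide +kernel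
theorem CandK10_4 : allR (20000 + 4 * 50) 50 chkC = true := by decide +kernel
theorem CandK10_5 : allR (20000 + 5 * 50) 50 chkC = true := by decide +kernel
theorem CandK10_6 : allR (20000 + 6 * 50) 50 chkC = true := by decide +kernel
theorem CandK10_7 : allR (20000 + 7 * 50) 50 chkC = true := by decide +kernel
theorem CandK10_8 : allR (20000 + 8 * 50) 50 chkC = true := by decide +kernel
theorem CandK10_9 : allR (20000 + 9 * 50) 50 chkC = true := by decide +kernel
theorem CandK10_10 : allR (20000 + 10 * 50) 50 chkC = true := by decide +kernel
theorem CandK10_11 : allR (20000 + 11 * 50) 50 chkC = true := by decide +kernel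
theorem CandK10_12 : allR (20000 + 12 * 50) 50 chkC = true := by decide +kernel
theorem CandK10_13 : allR (20000 + 13 * 50) 50 chkC = true := by decide +kernel
theorem CandK10_14 : allR (20000 + 14 * 50) 50 chkC = true := by decide +kernel
theorem CandK10_15 : allR (20000 + 15 * 50) 50 chkC = true := by decide +kernel
theorem CandK10_16 : allR (20000 + 16 * 50) 50 chkC = true := by decide +kernel
theorem CandK10_17 : allR (20000 + 17 * 50) 50 chkC = true := by decide +kernel
theorem CandK10_18 : allR (20000 + 18 * 50) 50 chkC = true := by decide +kernel
theorem CandK10_19 : allR (20000 + 19 * 50) 50 chkC = true := by decide +kernel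
theorem CandK10_20 : allR (20000 + 20 * 50) 50 chkC = true := by decide +kernel
theorem CandK10_21 : allR (20000 + 21 * 50) 50 chkC = true := by decide +kernel
theorem CandK10_22 : allR (20000 + 22 * 50) 50 chkC = true := by decide +kernel
theorem CandK10_23 : allR (20000 + 23 * 50) 50 chkC = true := by decide +kernel
theorem CandK10_24 : allR (20000 + 24 * 50) 50 chkC = true := by decide +kernel
theorem CandK10_25 : allR (20000 + 25 * 50) 50 chkC = true := by decide +kernel
theorem CandK10_26 : allR (20000 + 26 * 50) 50 chkC = true := by decide +kernel
theorem CandK10_27 : allR (20000 + 27 * 50) 50 chkC = true := by decide +kernel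
theorem CandK10_28 : allR (20000 + 28 * 50) 50 chkC = true := by decide +kernel
theorem CandK10_29 : allR (20000 + 29 * 50) 50 chkC = true := by decide +kernel
theorem CandK10_30 : allR (20000 + 30 * 50) 50 chkC = true := by decide +kernel
theorem CandK10_31 : allR (20000 + 31 * 50) 50 chkC = true := by decide +kernel
theorem CandK10_32 : allR (20000 + 32 * 50) 50 chkC = true := by decide +kernel
theorem CandK10_33 : allR (20000 + 33 * 50) 50 chkC = true := by decide +kernel
theorem CandK10_34 : allR (20000 + 34 * 50) 50 chkC = true := by decide +kernel
theorem CandK10_35 : allR (20000 + 35 * 50) 50 chkC = true := by decide +kernel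
theorem CandK10_36 : allR (20000 + 36 * 50) 50 chkC = true := by decide +kernel
theorem CandK10_37 : allR (20000 + 37 * 50) 50 chkC = true := by decide +kernel
theorem CandK10_38 : allR (20000 + 38 * 50) 50 chkC = true := by decide +kernel
theorem CandK10_39 : allR (20000 + 39 * 50) 50 chkC = true := by decide +kernel

theorem CandK10_all : ∀ i, 20000 ≤ i → i < 20000 + 40 * 50 → chkC i = true := by
  apply of_slices' chkC 50 40 20000
  intro s hs
  interval_cases s
  · exact CandK10_0
  · exact CandK10_1
  · exact CandK10_2
  · exact CandK10_3
  · exact CandK10_4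
  · exact CandK10_5
  · exact CandK10_6
  · exact CandK10_7
  · exact CandK10_8
  · exact CandK10_9
  · exact CandK10_10
  · exact CandK10_11
  · exact CandK10_12
  · exact CandK10_13
  · exact CandK10_14
  · exact CandK10_15
  · exact CandK10_16
  · exact CandK10_17
  · exact CandK10_18
  · exact CandK10_19
  · exact CandK10_20
  · exact CandK10_21
  · exact CandK10_22
  · exact CandK10_23
  · exact CandK10_24
  · exact CandK10_25
  · exact CandK10_26
  · exact CandK10_27
  · exact CandK10_28
  · exact CandK10_29
  · exact CandK10_30
  · exact CandK10_31
  · exact CandK10_32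
  · exact CandK10_33
  · exact CandK10_34
  · exact CandK10_35
  · exact CandK10_36
  · exact CandK10_37
  · exact CandK10_38
  · exact CandK10_39

end Cfsg.Agent.Helper17.Fi23Out
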