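import Cfsg.Agent.Helper17.Fi23Out.CandK10

/-! kernel checks of `chkC` on the points `22000 ≤ j < 24000` -/

set_option autoImplicit false
set_option linter.all false
set_option maxRecDepth 100000

namespace Cfsg.Agent.Helper17.Fi23Out

open Cfsg.Agent.Helper17.TCG

theorem CandK11_0 : allR (22000 + 0 * 50) 50 chkC = true := by decide +kernel
theorem CandK11_1 : allR (22000 + 1 * 50) 50 chkC = true := by decide +kernel
theorem CandK11_2 : allR (22000 + 2 * 50) 50 chkC = true := by decide +kernel
theorem CandK11_3 : allR (22000 + 3 * 50) 50 chkC = true := by decide +kernel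
theorem CandK11_4 : allR (22000 + 4 * 50) 50 chkC = true := by decide +kernel
theorem CandK11_5 : allR (22000 + 5 * 50) 50 chkC = true := by decide +kernel
theorem CandK11_6 : allR (22000 + 6 * 50) 50 chkC = true := by decide +kernel
theorem CandK11_7 : allR (22000 + 7 * 50) 50 chkC = true := by decide +kernel
theorem CandK11_8 : allR (22000 + 8 * 50) 50 chkC = true := by decide +kernel
theorem CandK11_9 : allR (22000 + 9 * 50) 50 chkC = true := by decide +kernel
theorem CandK11_10 : allR (22000 + 10 * 50) 50 chkC = true := by decide +kernel
theorem CandK11_11 : allR (22000 + 11 * 50) 50 chkC = true := by decide +kernel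
theorem CandK11_12 : allR (22000 + 12 * 50) 50 chkC = true := by decide +kernel
theorem CandK11_13 : allR (22000 + 13 * 50) 50 chkC = true := by decide +kernel
theorem CandK11_14 : allR (22000 + 14 * 50) 50 chkC = true := by decide +kernel
theorem CandK11_15 : allR (22000 + 15 * 50) 50 chkC = true := by decide +kernel
theorem CandK11_16 : allR (22000 + 16 * 50) 50 chkC = true := by decide +kernel
theorem CandK11_17 : allR (22000 + 17 * 50) 50 chkC = true := by decide +kernel
theorem CandK11_18 : allR (22000 + 18 * 50) 50 chkC = true := by decide +kernel
theorem CandK11_19 : allR (22000 + 19 * 50) 50 chkC = true := by decide +kernel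
theorem CandK11_20 : allR (22000 + 20 * 50) 50 chkC = true := by decide +kernel
theorem CandK11_21 : allR (22000 + 21 * 50) 50 chkC = true := by decide +kernel
theorem CandK11_22 : allR (22000 + 22 * 50) 50 chkC = true := by decide +kernel
theorem CandK11_23 : allR (22000 + 23 * 50) 50 chkC = true := by decide +kernel
theorem CandK11_24 : allR (22000 + 24 * 50) 50 chkC = true := by decide +kernel
theorem CandK11_25 : allR (22000 + 25 * 50) 50 chkC = true := by decide +kernel
theorem CandK11_26 : allR (22000 + 26 * 50) 50 chkC = true := by decide +kernel
theorem CandK11_27 : allR (22000 + 27 * 50) 50 chkC = true := by decide +kernel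
theorem CandK11_28 : allR (22000 + 28 * 50) 50 chkC = true := by decide +kernel
theorem CandK11_29 : allR (22000 + 29 * 50) 50 chkC = true := by decide +kernel
theorem CandK11_30 : allR (22000 + 30 * 50) 50 chkC = true := by decide +kernel
theorem CandK11_31 : allR (22000 + 31 * 50) 50 chkC = true := by decide +kernel
theorem CandK11_32 : allR (22000 + 32 * 50) 50 chkC = true := by decide +kernel
theorem CandK11_33 : allR (22000 + 33 * 50) 50 chkC = true := by decide +kernel
theorem CandK11_34 : allR (22000 + 34 * 50) 50 chkC = true := by decide +kernel
theorem CandK11_35 : allR (22000 + 35 * 50) 50 chkC = true := by decide +kernel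
theorem CandK11_36 : allR (22000 + 36 * 50) 50 chkC = true := by decide +kernel
theorem CandK11_37 : allR (22000 + 37 * 50) 50 chkC = true := by decide +kernel
theorem CandK11_38 : allR (22000 + 38 * 50) 50 chkC = true := by decide +kernel
theorem CandK11_39 : allR (22000 + 39 * 50) 50 chkC = true := by decide +kernel

theorem CandK11_all : ∀ i, 22000 ≤ i → i < 22000 + 40 * 50 → chkC i = true := by
  apply of_slices' chkC 50 40 22000
  intro s hs
  interval_cases s
  · exact CandK11_0
  · exact CandK11_1
  · exact CandK11_2
  · exact CandK11_3
  · exact CandK11_4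
  · exact CandK11_5
  · exact CandK11_6
  · exact CandK11_7
  · exact CandK11_8
  · exact CandK11_9
  · exact CandK11_10
  · exact CandK11_11
  · exact CandK11_12
  · exact CandK11_13
  · exact CandK11_14
  · exact CandK11_15
  · exact CandK11_16
  · exact CandK11_17
  · exact CandK11_18
  · exact CandK11_19
  · exact CandK11_20
  · exact CandK11_21
  · exact CandK11_22
  · exact CandK11_23
  · exact CandK11_24
  · exact CandK11_25
  · exact CandK11_26
  · exact CandK11_27
  · exact CandK11_28
  · exact CandK11_29
  · exact CandK11_30
  · exact CandK11_31
  · exact CandK11_32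
  · exact CandK11_33
  · exact CandK11_34
  · exact CandK11_35
  · exact CandK11_36
  · exact CandK11_37
  · exact CandK11_38
  · exact CandK11_39

end Cfsg.Agent.Helper17.Fi23Out
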