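import Cfsg.Agent.Helper17.Fi23Out.CandK11

/-! kernel checks of `chkC` on the points `24000 ≤ j < 26000` -/

set_option autoImplicit false
set_option linter.all false
set_option maxRecDepth 100000

namespace Cfsg.Agent.Helper17.Fi23Out

open Cfsg.Agent.Helper17.TCG

theorem CandK12_0 : allR (24000 + 0 * 50) 50 chkC = true := by decide +kernel
theorem CandK12_1 : allR (24000 + 1 * 50) 50 chkC = true := by decide +kernel
theorem CandK12_2 : allR (24000 + 2 * 50) 50 chkC = true := by decide +kernel
theorem CandK12_3 : allR (24000 + 3 * 50) 50 chkC = true := by decide +kernel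
theorem CandK12_4 : allR (24000 + 4 * 50) 50 chkC = true := by decide +kernel
theorem CandK12_5 : allR (24000 + 5 * 50) 50 chkC = true := by decide +kernel
theorem CandK12_6 : allR (24000 + 6 * 50) 50 chkC = true := by decide +kernel
theorem CandK12_7 : allR (24000 + 7 * 50) 50 chkC = true := by decide +kernel
theorem CandK12_8 : allR (24000 + 8 * 50) 50 chkC = true := by decide +kernel
theorem CandK12_9 : allR (24000 + 9 * 50) 50 chkC = true := by decide +kernel
theorem CandK12_10 : allR (24000 + 10 * 50) 50 chkC = true := by decide +kernel
theorem CandK12_11 : allR (24000 + 11 * 50) 50 chkC = true := by decide +kernel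
theorem CandK12_12 : allR (24000 + 12 * 50) 50 chkC = true := by decide +kernel
theorem CandK12_13 : allR (24000 + 13 * 50) 50 chkC = true := by decide +kernel
theorem CandK12_14 : allR (24000 + 14 * 50) 50 chkC = true := by decide +kernel
theorem CandK12_15 : allR (24000 + 15 * 50) 50 chkC = true := by decide +kernel
theorem CandK12_16 : allR (24000 + 16 * 50) 50 chkC = true := by decide +kernel
theorem CandK12_17 : allR (24000 + 17 * 50) 50 chkC = true := by decide +kernel
theorem CandK12_18 : allR (24000 + 18 * 50) 50 chkC = true := by decide +kernel
theorem CandK12_19 : allR (24000 + 19 * 50) 50 chkC = true := by decide +kernel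
theorem CandK12_20 : allR (24000 + 20 * 50) 50 chkC = true := by decide +kernel
theorem CandK12_21 : allR (24000 + 21 * 50) 50 chkC = true := by decide +kernel
theorem CandK12_22 : allR (24000 + 22 * 50) 50 chkC = true := by decide +kernel
theorem CandK12_23 : allR (24000 + 23 * 50) 50 chkC = true := by decide +kernel
theorem CandK12_24 : allR (24000 + 24 * 50) 50 chkC = true := by decide +kernel
theorem CandK12_25 : allR (24000 + 25 * 50) 50 chkC = true := by decide +kernel
theorem CandK12_26 : allR (24000 + 26 * 50) 50 chkC = true := by decide +kernel
theorem CandK12_27 : allR (24000 + 27 * 50) 50 chkC = true := by decide +kernel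
theorem CandK12_28 : allR (24000 + 28 * 50) 50 chkC = true := by decide +kernel
theorem CandK12_29 : allR (24000 + 29 * 50) 50 chkC = true := by decide +kernel
theorem CandK12_30 : allR (24000 + 30 * 50) 50 chkC = true := by decide +kernel
theorem CandK12_31 : allR (24000 + 31 * 50) 50 chkC = true := by decide +kernel
theorem CandK12_32 : allR (24000 + 32 * 50) 50 chkC = true := by decide +kernel
theorem CandK12_33 : allR (24000 + 33 * 50) 50 chkC = true := by decide +kernel
theorem CandK12_34 : allR (24000 + 34 * 50) 50 chkC = true := by decide +kernel
theorem CandK12_35 : allR (24000 + 35 * 50) 50 chkC = true := by decide +kernel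
theorem CandK12_36 : allR (24000 + 36 * 50) 50 chkC = true := by decide +kernel
theorem CandK12_37 : allR (24000 + 37 * 50) 50 chkC = true := by decide +kernel
theorem CandK12_38 : allR (24000 + 38 * 50) 50 chkC = true := by decide +kernel
theorem CandK12_39 : allR (24000 + 39 * 50) 50 chkC = true := by decide +kernel

theorem CandK12_all : ∀ i, 24000 ≤ i → i < 24000 + 40 * 50 → chkC i = true := by
  apply of_slices' chkC 50 40 24000
  intro s hs
  interval_cases s
  · exact CandK12_0
  · exact CandK12_1
  · exact CandK12_2
  · exact CandK12_3
  · exact CandK12_4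
  · exact CandK12_5
  · exact CandK12_6
  · exact CandK12_7
  · exact CandK12_8
  · exact CandK12_9
  · exact CandK12_10
  · exact CandK12_11
  · exact CandK12_12
  · exact CandK12_13
  · exact CandK12_14
  · exact CandK12_15
  · exact CandK12_16
  · exact CandK12_17
  · exact CandK12_18
  · exact CandK12_19
  · exact CandK12_20
  · exact CandK12_21
  · exact CandK12_22
  · exact CandK12_23
  · exact CandK12_24
  · exact CandK12_25
  · exact CandK12_26
  · exact CandK12_27
  · exact CandK12_28
  · exact CandK12_29
  · exact CandK12_30
  · exact CandK12_31
  · exact CandK12_32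
  · exact CandK12_33
  · exact CandK12_34
  · exact CandK12_35
  · exact CandK12_36
  · exact CandK12_37
  · exact CandK12_38
  · exact CandK12_39

end Cfsg.Agent.Helper17.Fi23Out
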