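import Cfsg.Agent.Helper17.Fi23Out.CandK12

/-! kernel checks of `chkC` on the points `26000 ≤ j < 28000` -/

set_option autoImplicit false
set_option linter.all false
set_option maxRecDepth 100000

namespace Cfsg.Agent.Helper17.Fi23Out

open Cfsg.Agent.Helper17.TCG

theorem CandK13_0 : allR (26000 + 0 * 50) 50 chkC = true := by decide +kernel
theorem CandK13_1 : allR (26000 + 1 * 50) 50 chkC = true := by decide +kernel
theorem CandK13_2 : allR (26000 + 2 * 50) 50 chkC = true := by decide +kernel
theorem CandK13_3 : allR (26000 + 3 * 50) 50 chkC = true := by decide +kernel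
theorem CandK13_4 : allR (26000 + 4 * 50) 50 chkC = true := by decide +kernel
theorem CandK13_5 : allR (26000 + 5 * 50) 50 chkC = true := by decide +kernel
theorem CandK13_6 : allR (26000 + 6 * 50) 50 chkC = true := by decide +kernel
theorem CandK13_7 : allR (26000 + 7 * 50) 50 chkC = true := by decide +kernel
theorem CandK13_8 : allR (26000 + 8 * 50) 50 chkC = true := by decide +kernel
theorem CandK13_9 : allR (26000 + 9 * 50) 50 chkC = true := by decide +kernel
theorem CandK13_10 : allR (26000 + 10 * 50) 50 chkC = true := by decide +kernel
theorem CandK13_11 : allR (26000 + 11 * 50) 50 chkC = true := by decide +kernel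
theorem CandK13_12 : allR (26000 + 12 * 50) 50 chkC = true := by decide +kernel
theorem CandK13_13 : allR (26000 + 13 * 50) 50 chkC = true := by decide +kernel
theorem CandK13_14 : allR (26000 + 14 * 50) 50 chkC = true := by decide +kernel
theorem CandK13_15 : allR (26000 + 15 * 50) 50 chkC = true := by decide +kernel
theorem CandK13_16 : allR (26000 + 16 * 50) 50 chkC = true := by decide +kernel
theorem CandK13_17 : allR (26000 + 17 * 50) 50 chkC = true := by decide +kernel
theorem CandK13_18 : allR (26000 + 18 * 50) 50 chkC = true := by decide +kernel
theorem CandK13_19 : allR (26000 + 19 * 50) 50 chkC = true := by decide +kernel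
theorem CandK13_20 : allR (26000 + 20 * 50) 50 chkC = true := by decide +kernel
theorem CandK13_21 : allR (26000 + 21 * 50) 50 chkC = true := by decide +kernel
theorem CandK13_22 : allR (26000 + 22 * 50) 50 chkC = true := by decide +kernel
theorem CandK13_23 : allR (26000 + 23 * 50) 50 chkC = true := by decide +kernel
theorem CandK13_24 : allR (26000 + 24 * 50) 50 chkC = true := by decide +kernel
theorem CandK13_25 : allR (26000 + 25 * 50) 50 chkC = true := by decide +kernel
theorem CandK13_26 : allR (26000 + 26 * 50) 50 chkC = true := by decide +kernel
theorem CandK13_27 : allR (26000 + 27 * 50) 50 chkC = true := by decide +kernel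
theorem CandK13_28 : allR (26000 + 28 * 50) 50 chkC = true := by decide +kernel
theorem CandK13_29 : allR (26000 + 29 * 50) 50 chkC = true := by decide +kernel
theorem CandK13_30 : allR (26000 + 30 * 50) 50 chkC = true := by decide +kernel
theorem CandK13_31 : allR (26000 + 31 * 50) 50 chkC = true := by decide +kernel
theorem CandK13_32 : allR (26000 + 32 * 50) 50 chkC = true := by decide +kernel
theorem CandK13_33 : allR (26000 + 33 * 50) 50 chkC = true := by decide +kernel
theorem CandK13_34 : allR (26000 + 34 * 50) 50 chkC = true := by decide +kernel
theorem CandK13_35 : allR (26000 + 35 * 50) 50 chkC = true := by decide +kernel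
theorem CandK13_36 : allR (26000 + 36 * 50) 50 chkC = true := by decide +kernel
theorem CandK13_37 : allR (26000 + 37 * 50) 50 chkC = true := by decide +kernel
theorem CandK13_38 : allR (26000 + 38 * 50) 50 chkC = true := by decide +kernel
theorem CandK13_39 : allR (26000 + 39 * 50) 50 chkC = true := by decide +kernel

theorem CandK13_all : ∀ i, 26000 ≤ i → i < 26000 + 40 * 50 → chkC i = true := by
  apply of_slices' chkC 50 40 26000
  intro s hs
  interval_cases s
  · exact CandK13_0
  · exact CandK13_1
  · exact CandK13_2
  · exact CandK13_3
  · exact CandK13_4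
  · exact CandK13_5
  · exact CandK13_6
  · exact CandK13_7
  · exact CandK13_8
  · exact CandK13_9
  · exact CandK13_10
  · exact CandK13_11
  · exact CandK13_12
  · exact CandK13_13
  · exact CandK13_14
  · exact CandK13_15
  · exact CandK13_16
  · exact CandK13_17
  · exact CandK13_18
  · exact CandK13_19
  · exact CandK13_20
  · exact CandK13_21
  · exact CandK13_22
  · exact CandK13_23
  · exact CandK13_24
  · exact CandK13_25
  · exact CandK13_26
  · exact CandK13_27
  · exact CandK13_28
  · exact CandK13_29
  · exact CandK13_30
  · exact CandK13_31
  · exact CandK13_32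
  · exact CandK13_33
  · exact CandK13_34
  · exact CandK13_35
  · exact CandK13_36
  · exact CandK13_37
  · exact CandK13_38
  · exact CandK13_39

end Cfsg.Agent.Helper17.Fi23Out
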