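import Cfsg.Agent.Helper17.Fi23Out.CandK13

/-! kernel checks of `chkC` on the points `28000 ≤ j < 30000` -/

set_option autoImplicit false
set_option linter.all false
set_option maxRecDepth 100000

namespace Cfsg.Agent.Helper17.Fi23Out

open Cfsg.Agent.Helper17.TCG

theorem CandK14_0 : allR (28000 + 0 * 50) 50 chkC = true := by decide +kernel
theorem CandK14_1 : allR (28000 + 1 * 50) 50 chkC = true := by decide +kernel
theorem CandK14_2 : allR (28000 + 2 * 50) 50 chkC = true := by decide +kernel
theorem CandK14_3 : allR (28000 + 3 * 50) 50 chkC = true := by decide +kernel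
theorem CandK14_4 : allR (28000 + 4 * 50) 50 chkC = true := by decide +kernel
theorem CandK14_5 : allR (28000 + 5 * 50) 50 chkC = true := by decide +kernel
theorem CandK14_6 : allR (28000 + 6 * 50) 50 chkC = true := by decide +kernel
theorem CandK14_7 : allR (28000 + 7 * 50) 50 chkC = true := by decide +kernel
theorem CandK14_8 : allR (28000 + 8 * 50) 50 chkC = true := by decide +kernel
theorem CandK14_9 : allR (28000 + 9 * 50) 50 chkC = true := by decide +kernel
theorem CandK14_10 : allR (28000 + 10 * 50) 50 chkC = true := by decide +kernel
theorem CandK14_11 : allR (28000 + 11 * 50) 50 chkC = true := by decide +kernel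
theorem CandK14_12 : allR (28000 + 12 * 50) 50 chkC = true := by decide +kernel
theorem CandK14_13 : allR (28000 + 13 * 50) 50 chkC = true := by decide +kernel
theorem CandK14_14 : allR (28000 + 14 * 50) 50 chkC = true := by decide +kernel
theorem CandK14_15 : allR (28000 + 15 * 50) 50 chkC = true := by decide +kernel
theorem CandK14_16 : allR (28000 + 16 * 50) 50 chkC = true := by decide +kernel
theorem CandK14_17 : allR (28000 + 17 * 50) 50 chkC = true := by decide +kernel
theorem CandK14_18 : allR (28000 + 18 * 50) 50 chkC = true := by decide +kernel
theorem CandK14_19 : allR (28000 + 19 * 50) 50 chkC = true := by decide +kernel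
theorem CandK14_20 : allR (28000 + 20 * 50) 50 chkC = true := by decide +kernel
theorem CandK14_21 : allR (28000 + 21 * 50) 50 chkC = true := by decide +kernel
theorem CandK14_22 : allR (28000 + 22 * 50) 50 chkC = true := by decide +kernel
theorem CandK14_23 : allR (28000 + 23 * 50) 50 chkC = true := by decide +kernel
theorem CandK14_24 : allR (28000 + 24 * 50) 50 chkC = true := by decide +kernel
theorem CandK14_25 : allR (28000 + 25 * 50) 50 chkC = true := by decide +kernel
theorem CandK14_26 : allR (28000 + 26 * 50) 50 chkC = true := by decide +kernel
theorem CandK14_27 : allR (28000 + 27 * 50) 50 chkC = true := by decide +kernel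
theorem CandK14_28 : allR (28000 + 28 * 50) 50 chkC = true := by decide +kernel
theorem CandK14_29 : allR (28000 + 29 * 50) 50 chkC = true := by decide +kernel
theorem CandK14_30 : allR (28000 + 30 * 50) 50 chkC = true := by decide +kernel
theorem CandK14_31 : allR (28000 + 31 * 50) 50 chkC = true := by decide +kernel
theorem CandK14_32 : allR (28000 + 32 * 50) 50 chkC = true := by decide +kernel
theorem CandK14_33 : allR (28000 + 33 * 50) 50 chkC = true := by decide +kernel
theorem CandK14_34 : allR (28000 + 34 * 50) 50 chkC = true := by decide +kernel
theorem CandK14_35 : allR (28000 + 35 * 50) 50 chkC = true := by decide +kernel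
theorem CandK14_36 : allR (28000 + 36 * 50) 50 chkC = true := by decide +kernel
theorem CandK14_37 : allR (28000 + 37 * 50) 50 chkC = true := by decide +kernel
theorem CandK14_38 : allR (28000 + 38 * 50) 50 chkC = true := by decide +kernel
theorem CandK14_39 : allR (28000 + 39 * 50) 50 chkC = true := by decide +kernel

theorem CandK14_all : ∀ i, 28000 ≤ i → i < 28000 + 40 * 50 → chkC i = true := by
  apply of_slices' chkC 50 40 28000
  intro s hs
  interval_cases s
  · exact CandK14_0
  · exact CandK14_1
  · exact CandK14_2
  · exact CandK14_3
  · exact CandK14_4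
  · exact CandK14_5
  · exact CandK14_6
  · exact CandK14_7
  · exact CandK14_8
  · exact CandK14_9
  · exact CandK14_10
  · exact CandK14_11
  · exact CandK14_12
  · exact CandK14_13
  · exact CandK14_14
  · exact CandK14_15
  · exact CandK14_16
  · exact CandK14_17
  · exact CandK14_18
  · exact CandK14_19
  · exact CandK14_20
  · exact CandK14_21
  · exact CandK14_22
  · exact CandK14_23
  · exact CandK14_24
  · exact CandK14_25
  · exact CandK14_26
  · exact CandK14_27
  · exact CandK14_28
  · exact CandK14_29
  · exact CandK14_30
  · exact CandK14_31
  · exact CandK14_32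
  · exact CandK14_33
  · exact CandK14_34
  · exact CandK14_35
  · exact CandK14_36
  · exact CandK14_37
  · exact CandK14_38
  · exact CandK14_39

end Cfsg.Agent.Helper17.Fi23Out
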