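import Cfsg.Agent.Helper17.Fi23Out.CandK14

/-! kernel checks of `chkC` on the points `30000 ≤ j < 32000` -/

set_option autoImplicit false
set_option linter.all false
set_option maxRecDepth 100000

namespace Cfsg.Agent.Helper17.Fi23Out

open Cfsg.Agent.Helper17.TCG

theorem CandK15_0 : allR (30000 + 0 * 50) 50 chkC = true := by decide +kernel
theorem CandK15_1 : allR (30000 + 1 * 50) 50 chkC = true := by decide +kernel
theorem CandK15_2 : allR (30000 + 2 * 50) 50 chkC = true := by decide +kernel
theorem CandK15_3 : allR (30000 + 3 * 50) 50 chkC = true := by decide +kernel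
theorem CandK15_4 : allR (30000 + 4 * 50) 50 chkC = true := by decide +kernel
theorem CandK15_5 : allR (30000 + 5 * 50) 50 chkC = true := by decide +kernel
theorem CandK15_6 : allR (30000 + 6 * 50) 50 chkC = true := by decide +kernel
theorem CandK15_7 : allR (30000 + 7 * 50) 50 chkC = true := by decide +kernel
theorem CandK15_8 : allR (30000 + 8 * 50) 50 chkC = true := by decide +kernel
theorem CandK15_9 : allR (30000 + 9 * 50) 50 chkC = true := by decide +kernel
theorem CandK15_10 : allR (30000 + 10 * 50) 50 chkC = true := by decide +kernel
theorem CandK15_11 : allR (30000 + 11 * 50) 50 chkC = true := by decide +kernel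
theorem CandK15_12 : allR (30000 + 12 * 50) 50 chkC = true := by decide +kernel
theorem CandK15_13 : allR (30000 + 13 * 50) 50 chkC = true := by decide +kernel
theorem CandK15_14 : allR (30000 + 14 * 50) 50 chkC = true := by decide +kernel
theorem CandK15_15 : allR (30000 + 15 * 50) 50 chkC = true := by decide +kernel
theorem CandK15_16 : allR (30000 + 16 * 50) 50 chkC = true := by decide +kernel
theorem CandK15_17 : allR (30000 + 17 * 50) 50 chkC = true := by decide +kernel
theorem CandK15_18 : allR (30000 + 18 * 50) 50 chkC = true := by decide +kernel
theorem CandK15_19 : allR (30000 + 19 * 50) 50 chkC = true := by decide +kernel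
theorem CandK15_20 : allR (30000 + 20 * 50) 50 chkC = true := by decide +kernel
theorem CandK15_21 : allR (30000 + 21 * 50) 50 chkC = true := by decide +kernel
theorem CandK15_22 : allR (30000 + 22 * 50) 50 chkC = true := by decide +kernel
theorem CandK15_23 : allR (30000 + 23 * 50) 50 chkC = true := by decide +kernel
theorem CandK15_24 : allR (30000 + 24 * 50) 50 chkC = true := by decide +kernel
theorem CandK15_25 : allR (30000 + 25 * 50) 50 chkC = true := by decide +kernel
theorem CandK15_26 : allR (30000 + 26 * 50) 50 chkC = true := by decide +kernel
theorem CandK15_27 : allR (30000 + 27 * 50) 50 chkC = true := by decide +kernel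
theorem CandK15_28 : allR (30000 + 28 * 50) 50 chkC = true := by decide +kernel
theorem CandK15_29 : allR (30000 + 29 * 50) 50 chkC = true := by decide +kernel
theorem CandK15_30 : allR (30000 + 30 * 50) 50 chkC = true := by decide +kernel
theorem CandK15_31 : allR (30000 + 31 * 50) 50 chkC = true := by decide +kernel
theorem CandK15_32 : allR (30000 + 32 * 50) 50 chkC = true := by decide +kernel
theorem CandK15_33 : allR (30000 + 33 * 50) 50 chkC = true := by decide +kernel
theorem CandK15_34 : allR (30000 + 34 * 50) 50 chkC = true := by decide +kernel
theorem CandK15_35 : allR (30000 + 35 * 50) 50 chkC = true := by decide +kernel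
theorem CandK15_36 : allR (30000 + 36 * 50) 50 chkC = true := by decide +kernel
theorem CandK15_37 : allR (30000 + 37 * 50) 50 chkC = true := by decide +kernel
theorem CandK15_38 : allR (30000 + 38 * 50) 50 chkC = true := by decide +kernel
theorem CandK15_39 : allR (30000 + 39 * 50) 50 chkC = true := by decide +kernel

theorem CandK15_all : ∀ i, 30000 ≤ i → i < 30000 + 40 * 50 → chkC i = true := by
  apply of_slices' chkC 50 40 30000
  intro s hs
  interval_cases s
  · exact CandK15_0
  · exact CandK15_1
  · exact CandK15_2
  · exact CandK15_3
  · exact CandK15_4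
  · exact CandK15_5
  · exact CandK15_6
  · exact CandK15_7
  · exact CandK15_8
  · exact CandK15_9
  · exact CandK15_10
  · exact CandK15_11
  · exact CandK15_12
  · exact CandK15_13
  · exact CandK15_14
  · exact CandK15_15
  · exact CandK15_16
  · exact CandK15_17
  · exact CandK15_18
  · exact CandK15_19
  · exact CandK15_20
  · exact CandK15_21
  · exact CandK15_22
  · exact CandK15_23
  · exact CandK15_24
  · exact CandK15_25
  · exact CandK15_26
  · exact CandK15_27
  · exact CandK15_28
  · exact CandK15_29
  · exact CandK15_30
  · exact CandK15_31
  · exact CandK15_32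
  · exact CandK15_33
  · exact CandK15_34
  · exact CandK15_35
  · exact CandK15_36
  · exact CandK15_37
  · exact CandK15_38
  · exact CandK15_39

end Cfsg.Agent.Helper17.Fi23Out
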