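import Cfsg.Agent.Helper17.Fi23Out.CandK15

/-! The candidates: a point whose commutation pattern agrees with that of the point `12` lies in
the orbit of `12` under `uE`. -/

set_option autoImplicit false
set_option linter.all false
set_option maxRecDepth 100000

noncomputable section

namespace Cfsg.Agent.Helper17.Fi23Out

open Cfsg.Spor Cfsg.Agent.Helper17.Fi23TC Cfsg.Agent.Helper17.Fi23Ord Cfsg.Agent.Helper17.Fi23Trans
  Cfsg.Agent.Helper17.TCG

theorem chkC_all : ∀ j, j < N → chkC j = true := by
  intro j hj
  have hN : N = 31671 := rfl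
  by_cases h0 : j < 2000
  · exact CandK00_all j (by omega) (by omega)
  by_cases h1 : j < 4000
  · exact CandK01_all j (by omega) (by omega)
  by_cases h2 : j < 6000
  · exact CandK02_all j (by omega) (by omega)
  by_cases h3 : j < 8000
  · exact CandK03_all j (by omega) (by omega)
  by_cases h4 : j < 10000
  · exact CandK04_all j (by omega) (by omega)
  by_cases h5 : j < 12000
  · exact CandK05_all j (by omega) (by omega)
  by_cases h6 : j < 14000
  · exact CandK06_all j (by omega) (by omega)
  by_cases h7 : j < 16000
  · exact CandK07_all j (by omega) (by omega)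
  by_cases h8 : j < 18000
  · exact CandK08_all j (by omega) (by omega)
  by_cases h9 : j < 20000
  · exact CandK09_all j (by omega) (by omega)
  by_cases h10 : j < 22000
  · exact CandK10_all j (by omega) (by omega)
  by_cases h11 : j < 24000
  · exact CandK11_all j (by omega) (by omega)
  by_cases h12 : j < 26000
  · exact CandK12_all j (by omega) (by omega)
  by_cases h13 : j < 28000
  · exact CandK13_all j (by omega) (by omega)
  by_cases h14 : j < 30000
  · exact CandK14_all j (by omega) (by omega)
  exact CandK15_all j (by omega) (by omega)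

theorem cand {j : ℕ} (hj : j < N) (h : ∀ i, 1 ≤ i → i ≤ 11 → cT j i = cT 12 i) : j ∈ orbL := by
  have hc := chkC_all j hj
  have hN : N = 31671 := rfl
  have hg : Nat.ble 31671 j = false := by
    cases hb : Nat.ble 31671 j
    · rfl
    · rw [Nat.ble_eq] at hb; omega
  rw [chkC, hg, cond_false, force_eq] at hc
  by_cases h0 : wit j = 0
  · rw [h0] at hc
    exact (memN_iff _ _).mp hc
  · have hb : Nat.beq (wit j) 0 = false := by
      cases hb : Nat.beq (wit j) 0
      · rfl
      · exact absurd (nbeq.mp hb) h0
    rw [hb] at hc
    simp only [cond_false, Bool.and_eq_true, Nat.ble_eq] at hc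
    have h1 : 1 ≤ wit j := Nat.one_le_iff_ne_zero.mpr h0
    rw [h (wit j) h1 hc.1, pat_ok h1 hc.1] at hc
    simp at hc

theorem orb_eq : orbL = (List.range 23).map (fun i => itW i 12) := by decide +kernel

theorem orb_spec {j : ℕ} (hj : j ∈ orbL) : ∃ i, i < 23 ∧ j = itW i 12 := by
  rw [orb_eq, List.mem_map] at hj
  obtain ⟨i, hi, rfl⟩ := hj
  exact ⟨i, List.mem_range.mp hi, rfl⟩

end Cfsg.Agent.Helper17.Fi23Out
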