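import Cfsg.Agent.Helper17.Fi23Out.Abs
import Cfsg.Agent.Helper17.Fi23Syl.Main

/-! The centre of the Sylow 2-subgroup `T0` of `Fi23` is a four-group containing exactly one
3-transposition; hence every automorphism of `Fi23` maps transpositions to transpositions. -/

set_option autoImplicit false
set_option linter.all false
set_option maxRecDepth 100000

noncomputable section

namespace Cfsg.Agent.Helper17.Fi23Out

open Cfsg.Spor Cfsg.Agent.Helper17.Fi23TC Cfsg.Agent.Helper17.Fi23Ord Cfsg.Agent.Helper17.Fi23Trans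
  Cfsg.Agent.Helper17.Fi23Syl

/-- the 3-transposition property of the class of `x` -/
def P3 (x : G) : Prop := ∀ h : G, (x * (h * x * h⁻¹)) ^ 2 = 1 ∨ (x * (h * x * h⁻¹)) ^ 3 = 1

theorem P3_aut (ψ : MulAut G) (x : G) (hx : P3 x) : P3 (ψ x) := by
  intro h
  have e : ψ x * (h * ψ x * h⁻¹) = ψ (x * (ψ.symm h * x * (ψ.symm h)⁻¹)) := by
    simp only [map_mul, map_inv, MulEquiv.apply_symm_apply]
  rw [e, ← map_pow, ← map_pow]
  rcases hx (ψ.symm h) with h2 | h3
  · left; rw [h2, map_one]
  · right; rw [h3, map_one]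

theorem P3_zG : P3 zG := pair_zG

theorem P3_dG (i : ℕ) : P3 (dG i) := by
  rw [dG_eq]
  have := P3_aut (MulAut.conj (prodw (uW i))) zG P3_zG
  rwa [MulAut.conj_apply] at this

/-! ### the centre of `T0` -/

theorem eX_inj : ∀ a < 23, ∀ b < 23, eX a = eX b → a = b := by decide

def chkFix12 : Bool := Slist.all fun L => Nat.beq (L.getD 12 0) 12

theorem chkFix12_ok : chkFix12 = true := by decide +kernel

theorem dG12_central {s : G} (hs : s ∈ T0) : s * dG 12 = dG 12 * s := by
  obtain ⟨L, hL, hA⟩ := T0_acts hs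
  have h12 : L.getD 12 0 = 12 := by
    have := chkFix12_ok
    simp only [chkFix12, List.all_eq_true] at this
    exact Nat.eq_of_beq_eq_true (this L hL)
  have h := conj_dG (g := s) (i := 12) (j := 12) (by norm_num) (by norm_num) (by
    have := hA 12 (by norm_num)
    rwa [h12] at this)
  calc s * dG 12 = (s * dG 12 * s⁻¹) * s := by group
    _ = dG 12 * s := by rw [h]

def fixY (y : ℕ) : Bool :=
  (List.range 3).all fun k => Nat.beq (xorfold (mcol (sL.getD k [])) 11 y) y

def chkZ : Bool :=
  (List.range 2048).all fun y =>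
    !(fixY y) || (Nat.beq y 0 || Nat.beq y 32 || Nat.beq y 1475 || Nat.beq y 1507)

theorem chkZ_ok : chkZ = true := by decide +kernel

theorem center_T0 {s : G} (hs : s ∈ T0) (hc : ∀ t ∈ T0, t * s = s * t) :
    s = 1 ∨ s = dG 12 ∨ s = psi 1475 ∨ s = psi 1507 := by
  obtain ⟨L, hL, hA⟩ := T0_acts hs
  have hv := (valid_of_validB (Slist_valid hL)).1
  have hid : Acts s idL := by
    intro i hi
    rw [idL_getD hi]
    have h1 := conj_dG (g := s) hi (hv i hi) (hA i hi)
    have h2 : s * dG i * s⁻¹ = dG i := by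
      rw [← hc (dG i) (E_le_T0 (dG_mem hi))]; group
    rw [h2, dG_eq_psi hi, dG_eq_psi (hv i hi)] at h1
    have h3 := psi_inj (by simpa using eX_lt hi) (by simpa using eX_lt (hv i hi)) h1
    have h4 := eX_inj _ hi _ (hv i hi) h3
    rw [hA i hi, ← h4]
  obtain ⟨y, hy, rfl⟩ := E_eq_psi (mem_E_of_Acts hid)
  have hy' : y < 2048 := by simpa using hy
  have hfix : fixY y = true := by
    simp only [fixY, List.all_eq_true, List.mem_range]
    intro k hk
    have hvk := (valid_of_validB (sL_valid hk)).1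
    have h1 := conj_psi (Acts_sG hk) hvk y
    have h2 : sG k * psi y * (sG k)⁻¹ = psi y := by
      rw [hc (sG k) (sG_mem hk)]; group
    rw [h2] at h1
    have hlt : xorfold (mcol (sL.getD k [])) 11 y < 2048 := by
      have := xorfold_lt (m := 11) 11 (mcol_lt hvk) y
      simpa using this
    have := psi_inj hy' hlt h1
    rw [← this]
    exact Nat.beq_refl y
  have hz := chkZ_ok
  simp only [chkZ, List.all_eq_true, List.mem_range] at hz
  have := hz y hy'
  rw [hfix] at this
  simp only [Bool.not_true, Bool.false_or, Bool.or_eq_true] at this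
  rcases this with ((h | h) | h) | h
  · left; rw [Nat.eq_of_beq_eq_true h, psi_zero]
  · right; left
    rw [Nat.eq_of_beq_eq_true h, dG_eq_psi (by norm_num : 12 < 23)]
    rfl
  · right; right; left; rw [Nat.eq_of_beq_eq_true h]
  · right; right; right; rw [Nat.eq_of_beq_eq_true h]

/-! ### the other two central involutions are not 3-transpositions -/

def Wc (y : ℕ) (h : List ℕ) : List ℕ := h.reverse ++ (wordOf 11 y ++ (h ++ wordOf 11 y))

theorem prodw_Wc (y : ℕ) (h : List ℕ) :
    prodw (Wc y h) = psi y * (prodw h * psi y * (prodw h)⁻¹) := by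
  rw [Wc, prodw_append, prodw_append, prodw_append, prodw_reverse, ← psi_eq_prodw]
  group

theorem ne_one_of_eval {w : List ℕ} (hw : ltAll w = true) (p : ℕ)
    (h : Nat.beq (evalw w p) p = false) : prodw w ≠ 1 := by
  intro h1
  have h2 : phi (prodw w) p = p := by rw [h1, map_one, Equiv.Perm.one_apply]
  rw [phi_prodw_apply _ (ltAll_spec hw)] at h2
  rw [h2, Nat.beq_refl] at h
  exact Bool.noConfusion h

theorem not_P3_a : ¬ P3 (psi 1475) := by
  intro h
  have h' := h (prodw [2, 6])
  rw [← prodw_Wc, ← prodw_replicate, ← prodw_replicate] at h'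
  rcases h' with h2 | h3
  · exact ne_one_of_eval (by decide +kernel) 1 (by decide +kernel) h2
  · exact ne_one_of_eval (by decide +kernel) 1 (by decide +kernel) h3

theorem not_P3_b : ¬ P3 (psi 1507) := by
  intro h
  have h' := h (prodw [0, 5])
  rw [← prodw_Wc, ← prodw_replicate, ← prodw_replicate] at h'
  rcases h' with h2 | h3
  · exact ne_one_of_eval (by decide +kernel) 1 (by decide +kernel) h2
  · exact ne_one_of_eval (by decide +kernel) 1 (by decide +kernel) h3

/-- every automorphism maps the central transposition of `T0` to a conjugate -/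
theorem aut_dG12 (φ : MulAut G) : ∃ g : G, φ (dG 12) = g * dG 12 * g⁻¹ := by
  haveI : Fact (Nat.Prime 2) := ⟨Nat.prime_two⟩
  haveI : Finite G := finG
  refine exists_conj_of_sylow_center_of_inv 2 P3 P3_aut T0 fact2' (dG 12)
    (E_le_T0 (dG_mem (by norm_num))) (P3_dG 12) (fun s hs => dG12_central hs) ?_ φ
  intro s hs hc
  rcases center_T0 hs hc with h | h | h | h
  · exact Or.inl h
  · exact Or.inr (Or.inl h)
  · right; right; rw [h]; exact not_P3_a
  · right; right; rw [h]; exact not_P3_b

/-- every automorphism preserves the class of transpositions -/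
theorem aut_D (φ : MulAut G) {d : G} (hd : d ∈ D) : φ d ∈ D := by
  obtain ⟨c, rfl⟩ := mem_D.mp hd
  obtain ⟨g, hg⟩ := aut_dG12 φ
  set w := prodw (uW 12) with hw
  have hz : zG = w⁻¹ * dG 12 * w := by rw [dG_eq, ← hw]; group
  rw [mem_D]
  refine ⟨φ (c * w⁻¹) * g * w, ?_⟩
  have e1 : φ (c * zG * c⁻¹) = φ (c * w⁻¹) * φ (dG 12) * (φ (c * w⁻¹))⁻¹ := by
    rw [← map_inv, ← map_mul, ← map_mul]
    congr 1
    rw [hz]; group
  rw [e1, hg, dG_eq, ← hw]
  group

end Cfsg.Agent.Helper17.Fi23Out
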