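import Cfsg.Agent.Helper17.Fi23Out.CandMain
import Cfsg.Agent.Helper17.Fi23Out.Center

/-! The elements `xE` (a transposition), `uE` (of order 23) and `nE` (normalizing `⟨uE⟩`): orders,
generation, and a relation of `(xE, uE)` which does not hold for `(xE, uE⁻¹)`. -/

set_option autoImplicit false
set_option linter.all false
set_option maxRecDepth 100000

noncomputable section

namespace Cfsg.Agent.Helper17.Fi23Out

open Cfsg.Spor Cfsg.Agent.Helper17.Fi23TC Cfsg.Agent.Helper17.Fi23Ord Cfsg.Agent.Helper17.Fi23Trans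
  Cfsg.Agent.Helper17.TCG

/-! ### the order of `uE` -/

theorem uE_pow : uE ^ 23 = 1 := by
  rw [uE, ← prodw_replicate]
  exact prodw_eq_one (by decide +kernel)

theorem uE_ne : uE ≠ 1 := ne_one_of_eval (by decide +kernel) 0 (by decide +kernel)

theorem orderOf_uE : orderOf uE = 23 := by
  haveI : Fact (Nat.Prime 23) := ⟨by norm_num⟩
  exact orderOf_eq_prime uE_pow uE_ne

/-! ### the normalizing element -/

def nE : G := prodw nW

theorem nE_conj : nE * uE * nE⁻¹ = uE ^ 13 := by
  have h : prodw (nW.reverse ++ (u0 ++ nW)) = prodw (List.replicate 13 u0).flatten :=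
    prodw_eq_of_chk (by decide +kernel)
  rw [prodw_append, prodw_append, prodw_reverse, prodw_replicate] at h
  exact h

/-! ### the transposition `xE` -/

def xE : G := dT 12

def xw : List ℕ := pq.reverse ++ (wz ++ pq)

theorem tW12 : tW 64 12 = pq := by decide +kernel

theorem xE_eq : xE = prodw xw := by
  rw [xE, dT, tG, tW12, xw, prodw_append, prodw_append, prodw_reverse, zG]

theorem xE_mem_D : xE ∈ D := mem_D.mpr ⟨tG 12, rfl⟩

/-! ### generation -/

def blk : ℕ → List ℕ
  | 0 => xw
  | 1 => u0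
  | _ => u0.reverse

def expand (bl : List ℕ) : List ℕ :=
  List.rec (motive := fun _ => List ℕ) [] (fun b _ ih => blk b ++ ih) bl

theorem expand_cons (b : ℕ) (bl : List ℕ) : expand (b :: bl) = blk b ++ expand bl := rfl

theorem prodw_blk_mem (b : ℕ) : prodw (blk b) ∈ Subgroup.closure ({xE, uE} : Set G) := by
  rcases b with _ | _ | b
  · show prodw xw ∈ _
    rw [← xE_eq]
    exact Subgroup.subset_closure (Set.mem_insert _ _)
  · exact Subgroup.subset_closure (Set.mem_insert_of_mem _ (Set.mem_singleton _))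
  · show prodw u0.reverse ∈ _
    rw [prodw_reverse]
    exact Subgroup.inv_mem _ (Subgroup.subset_closure (Set.mem_insert_of_mem _ (Set.mem_singleton _)))

theorem prodw_expand_mem (bl : List ℕ) :
    prodw (expand bl) ∈ Subgroup.closure ({xE, uE} : Set G) := by
  induction bl with
  | nil => exact Subgroup.one_mem _
  | cons b bl ih =>
    rw [expand_cons, prodw_append]
    exact Subgroup.mul_mem _ ih (prodw_blk_mem b)

/-- the word of `dT p` -/
def dwordT (p : ℕ) : List ℕ := (tW 64 p).reverse ++ (wz ++ tW 64 p)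

theorem prodw_dwordT (p : ℕ) : prodw (dwordT p) = dT p := by
  rw [dwordT, prodw_append, prodw_append, prodw_reverse, dT, tG, zG]

/-- the generators are the transpositions at the points `gpL` -/
def chkGP : Bool :=
  (List.range 10).all fun l => chkBase ([l] ++ (dwordT (gpL.getD l 0)).reverse)

theorem chkGP_ok : chkGP = true := by decide +kernel

theorem gG_eq_dT {l : ℕ} (hl : l < nl) : gG l = dT (gpL.getD l 0) := by
  have h := chkGP_ok
  simp only [chkGP, List.all_eq_true, List.mem_range] at h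
  have h1 : prodw [l] = prodw (dwordT (gpL.getD l 0)) := prodw_eq_of_chk (h l hl)
  have h2 : prodw [l] = gG l := by simp [prodw]
  rw [← h2, h1, prodw_dwordT]

def chkGen (l : ℕ) : Bool :=
  ltAll (expand (genB.getD l [])) &&
    Nat.beq (evalw (expand (genB.getD l [])) 12) (gpL.getD l 0)

theorem GN0 : chkGen 0 = true := by decide +kernel
theorem GN1 : chkGen 1 = true := by decide +kernel
theorem GN2 : chkGen 2 = true := by decide +kernel
theorem GN3 : chkGen 3 = true := by decide +kernel
theorem GN4 : chkGen 4 = true := by decide +kernel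
theorem GN5 : chkGen 5 = true := by decide +kernel
theorem GN6 : chkGen 6 = true := by decide +kernel
theorem GN7 : chkGen 7 = true := by decide +kernel
theorem GN8 : chkGen 8 = true := by decide +kernel
theorem GN9 : chkGen 9 = true := by decide +kernel

theorem chkGen_ok {l : ℕ} (hl : l < nl) : chkGen l = true := by
  have hl' : l < 10 := hl
  interval_cases l
  · exact GN0
  · exact GN1
  · exact GN2
  · exact GN3
  · exact GN4
  · exact GN5
  · exact GN6
  · exact GN7
  · exact GN8
  · exact GN9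

theorem gpL_lt {l : ℕ} (hl : l < nl) : gpL.getD l 0 < N := by
  have hl' : l < 10 := hl
  interval_cases l <;> decide

theorem gG_mem {l : ℕ} (hl : l < nl) : gG l ∈ Subgroup.closure ({xE, uE} : Set G) := by
  have h := chkGen_ok hl
  simp only [chkGen, Bool.and_eq_true] at h
  set g := prodw (expand (genB.getD l [])) with hg
  have hmem : g ∈ Subgroup.closure ({xE, uE} : Set G) := prodw_expand_mem _
  have h12 : (12 : ℕ) < N := by decide
  have hphi : phi (g * tG 12) 0 = gpL.getD l 0 := by
    rw [map_mul, Equiv.Perm.mul_apply, phi_tG h12, hg, phi_prodw_apply _ (ltAll_spec h.1)]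
    exact Nat.eq_of_beq_eq_true h.2
  have h1 := dT_eq (gpL_lt hl) hphi
  have h2 : g * xE * g⁻¹ = (g * tG 12) * zG * (g * tG 12)⁻¹ := by
    rw [xE, dT]; group
  rw [gG_eq_dT hl, ← h1, ← h2]
  exact Subgroup.mul_mem _ (Subgroup.mul_mem _ hmem
    (Subgroup.subset_closure (Set.mem_insert _ _))) (Subgroup.inv_mem _ hmem)

theorem closure_xu : Subgroup.closure ({xE, uE} : Set G) = ⊤ := by
  rw [eq_top_iff, ← hgenG, Subgroup.closure_le]
  rintro g ⟨l, hl, rfl⟩
  exact gG_mem hl

/-! ### a relation which distinguishes `uE` from its inverse -/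

def B1 : List ℕ := [1, 0, 1, 1, 1, 1, 1, 1, 1, 0, 1, 1, 1, 1, 0]

def B2 : List ℕ := [2, 0, 2, 2, 2, 2, 2, 2, 2, 0, 2, 2, 2, 2, 0]

theorem prodw_B1 : prodw (expand B1) = xE * uE ^ 4 * xE * uE ^ 7 * xE * uE := by
  simp only [B1, expand_cons, blk, prodw_append, ← xE_eq]
  show (1 : G) * _ * _ * _ * _ * _ * _ * _ * _ * _ * _ * _ * _ * _ * _ * _ = _
  rw [← uE]
  simp only [pow_succ, pow_zero, one_mul, mul_assoc]

theorem prodw_B2 : prodw (expand B2) = xE * uE⁻¹ ^ 4 * xE * uE⁻¹ ^ 7 * xE * uE⁻¹ := by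
  simp only [B2, expand_cons, blk, prodw_append, prodw_reverse, ← xE_eq]
  show (1 : G) * _ * _ * _ * _ * _ * _ * _ * _ * _ * _ * _ * _ * _ * _ * _ = _
  rw [← uE]
  simp only [pow_succ, pow_zero, one_mul, mul_assoc]

theorem rel1 : (xE * uE ^ 4 * xE * uE ^ 7 * xE * uE) ^ 11 = 1 := by
  rw [← prodw_B1, ← prodw_replicate]
  exact prodw_eq_one (by decide +kernel)

theorem rel2 : (xE * uE⁻¹ ^ 4 * xE * uE⁻¹ ^ 7 * xE * uE⁻¹) ^ 11 ≠ 1 := by
  rw [← prodw_B2, ← prodw_replicate]
  exact ne_one_of_eval (by decide +kernel) 0 (by decide +kernel)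

end Cfsg.Agent.Helper17.Fi23Out
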