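import Cfsg.Agent.Helper17.Fi23Out.Gen

/-! All automorphisms of `Fi23` are inner. -/

set_option autoImplicit false
set_option linter.all false
set_option maxRecDepth 100000

noncomputable section

namespace Cfsg.Agent.Helper17.Fi23Out

open Cfsg.Spor Cfsg.Agent.Helper17.Fi23TC Cfsg.Agent.Helper17.Fi23Ord Cfsg.Agent.Helper17.Fi23Trans
  Cfsg.Agent.Helper17.TCG

theorem phi_range (g : G) : (∀ p, p < N → phi g p < N) ∧ (∀ p, N ≤ p → phi g p = p) := by
  have hg : g ∈ Subgroup.closure {g : G | ∃ l, l < nl ∧ g = gG l} := by rw [hgenG]; trivial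
  induction hg using Subgroup.closure_induction with
  | mem x hx =>
    obtain ⟨l, hl, rfl⟩ := hx
    rw [phi_gG hl]
    exact ⟨fun p hp => by rw [σ_apply]; exact sg_lt hp, fun p hp => by rw [σ_apply]; exact sg_ge hp⟩
  | one => simp
  | mul x y _ _ hx hy =>
    refine ⟨fun p hp => ?_, fun p hp => ?_⟩
    · rw [map_mul, Equiv.Perm.mul_apply]; exact hx.1 _ (hy.1 p hp)
    · rw [map_mul, Equiv.Perm.mul_apply, hy.2 p hp, hx.2 p hp]
  | inv x _ hx =>
    have h2 : ∀ p, N ≤ p → phi x⁻¹ p = p := by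
      intro p hp
      rw [map_inv, Equiv.Perm.inv_eq_iff_eq, hx.2 p hp]
    refine ⟨fun p hp => ?_, h2⟩
    by_contra hcon
    have hge : N ≤ phi x⁻¹ p := Nat.le_of_not_lt hcon
    have h3 := hx.2 _ hge
    have h4 : phi x (phi x⁻¹ p) = p := by
      rw [map_inv]; exact Equiv.apply_symm_apply (phi x) p
    rw [h4] at h3
    omega

theorem phi_lt (g : G) {p : ℕ} (hp : p < N) : phi g p < N := (phi_range g).1 p hp

theorem comm_conj_symm (a v : G) :
    a * (v⁻¹ * a * v) = (v⁻¹ * a * v) * a ↔ a * (v * a * v⁻¹) = (v * a * v⁻¹) * a := by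
  constructor
  · intro h
    have e1 : a * (v * a * v⁻¹) = v * ((v⁻¹ * a * v) * a) * v⁻¹ := by group
    have e2 : (v * a * v⁻¹) * a = v * (a * (v⁻¹ * a * v)) * v⁻¹ := by group
    rw [e1, e2, h]
  · intro h
    have e1 : a * (v⁻¹ * a * v) = v⁻¹ * ((v * a * v⁻¹) * a) * v := by group
    have e2 : (v⁻¹ * a * v) * a = v⁻¹ * (a * (v * a * v⁻¹)) * v := by group
    rw [e1, e2, h]

/-- an automorphism mapping `uE` to `uE` or its inverse maps `xE` to a conjugate under `⟨uE⟩` -/
theorem aut_x (φ : MulAut G) (hu : φ uE = uE ∨ φ uE = uE⁻¹) :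
    ∃ i, i < 23 ∧ φ xE = uE ^ i * xE * (uE ^ i)⁻¹ := by
  have hD : φ xE ∈ D := aut_D φ xE_mem_D
  obtain ⟨c, hc⟩ := mem_D.mp hD
  have h0 : (0 : ℕ) < N := by decide
  have h12 : (12 : ℕ) < N := by decide
  have hjN : phi c 0 < N := phi_lt c h0
  have hdj : φ xE = dT (phi c 0) := by rw [← hc]; exact dT_eq hjN rfl
  have hpat : ∀ i, 1 ≤ i → i ≤ 11 → cT (phi c 0) i = cT 12 i := by
    intro i _ _
    rw [Bool.eq_iff_iff, cT_iff hjN, cT_iff h12, ← hdj]
    show _ ↔ xE * (uE ^ i * xE * (uE ^ i)⁻¹) = (uE ^ i * xE * (uE ^ i)⁻¹) * xE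
    rcases hu with hu | hu
    · constructor
      · intro h
        apply φ.injective
        simp only [map_mul, map_pow, map_inv, hu]
        exact h
      · intro h
        have := congrArg φ h
        simpa only [map_mul, map_pow, map_inv, hu] using this
    · rw [← comm_conj_symm]
      constructor
      · intro h
        apply φ.injective
        simp only [map_mul, map_pow, map_inv, hu, inv_pow, inv_inv]
        simpa only [inv_pow, inv_inv] using h
      · intro h
        have := congrArg φ h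
        simpa only [map_mul, map_pow, map_inv, hu, inv_pow, inv_inv] using this
  obtain ⟨i, hi, hji⟩ := orb_spec (cand hjN hpat)
  refine ⟨i, hi, ?_⟩
  have h1 := dT_eq hjN (a := uE ^ i * tG 12) (by
    rw [map_mul, Equiv.Perm.mul_apply, phi_tG h12, (phi_uE_pow i h12).1, hji])
  rw [hdj, ← h1, xE, dT]
  group

/-- no automorphism inverts `uE` -/
theorem not_inv (φ : MulAut G) : φ uE ≠ uE ^ 22 := by
  intro h
  have hinv : uE ^ 22 = uE⁻¹ := by
    rw [eq_inv_iff_mul_eq_one, ← pow_succ, uE_pow]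
  rw [hinv] at h
  obtain ⟨i, _, hx⟩ := aut_x φ (Or.inr h)
  -- compose with the inner automorphism of `(uE ^ i)⁻¹`
  set ψ : MulAut G := (MulAut.conj (uE ^ i))⁻¹ * φ with hψ
  have hψx : ψ xE = xE := by
    rw [hψ, MulAut.mul_apply, hx, MulAut.conj_inv_apply]; group
  have hψu : ψ uE = uE⁻¹ := by
    rw [hψ, MulAut.mul_apply, h, MulAut.conj_inv_apply]
    have hcm : Commute (uE ^ i) uE⁻¹ := (Commute.refl uE).inv_right.pow_left i
    have hc : uE⁻¹ * uE ^ i = uE ^ i * uE⁻¹ := hcm.eq.symm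
    simp only [mul_assoc]
    rw [hc, inv_mul_cancel_left]
  have := congrArg ψ rel1
  rw [map_one, map_pow] at this
  simp only [map_mul, map_pow, hψx, hψu] at this
  exact rel2 this

/-- the order of `G` -/
theorem card_G' : Nat.card G = 23 * 177803064056217600 := by
  rw [card_G]

theorem residues : ∀ k, 0 < k → k < 23 →
    ∃ j, k % 23 = 13 ^ j % 23 ∨ k % 23 = (22 * 13 ^ j) % 23 := by
  intro k h0 h1
  interval_cases k
  · exact ⟨0, Or.inl (by norm_num)⟩
  · exact ⟨8, Or.inl (by norm_num)⟩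
  · exact ⟨9, Or.inl (by norm_num)⟩
  · exact ⟨5, Or.inl (by norm_num)⟩
  · exact ⟨4, Or.inr (by norm_num)⟩
  · exact ⟨6, Or.inl (by norm_num)⟩
  · exact ⟨10, Or.inr (by norm_num)⟩
  · exact ⟨2, Or.inl (by norm_num)⟩
  · exact ⟨7, Or.inl (by norm_num)⟩
  · exact ⟨1, Or.inr (by norm_num)⟩
  · exact ⟨3, Or.inr (by norm_num)⟩
  · exact ⟨3, Or.inl (by norm_num)⟩
  · exact ⟨1, Or.inl (by norm_num)⟩
  · exact ⟨7, Or.inr (by norm_num)⟩
  · exact ⟨2, Or.inr (by norm_num)⟩
  · exact ⟨10, Or.inl (by norm_num)⟩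
  · exact ⟨6, Or.inr (by norm_num)⟩
  · exact ⟨4, Or.inl (by norm_num)⟩
  · exact ⟨5, Or.inr (by norm_num)⟩
  · exact ⟨9, Or.inr (by norm_num)⟩
  · exact ⟨8, Or.inr (by norm_num)⟩
  · exact ⟨0, Or.inr (by norm_num)⟩

theorem card_mulAut_le : Nat.card (MulAut G) ≤ Nat.card G := by
  classical
  haveI : Fact (Nat.Prime 23) := ⟨by norm_num⟩
  haveI : Finite G := finG
  refine card_mulAut_le_of_not_swap 23 177803064056217600 23 177803064056217600 22
    card_G' (by norm_num) (by norm_num) card_G' xE uE nE closure_xu orderOf_uE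
    (Subgroup.zpowers uE) (by rw [Nat.card_zpowers, orderOf_uE]) ?_ 13 nE_conj residues not_inv
    ((Finset.range 23).image fun i => uE ^ i * xE * (uE ^ i)⁻¹) ?_ ?_
  · rw [Subgroup.zpowers_le, Subgroup.mem_centralizer_iff]
    intro y hy
    rw [Set.mem_singleton_iff] at hy
    rw [hy]
  · exact (Finset.card_image_le).trans (by simp)
  · intro φ hφ
    obtain ⟨i, hi, hx⟩ := aut_x φ (Or.inl hφ)
    rw [Finset.mem_image]
    exact ⟨i, Finset.mem_range.mpr hi, hx.symm⟩

theorem center_G : Subgroup.center G = ⊥ := by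
  haveI := isSimple
  haveI : Finite G := finG
  rcases (inferInstance : (Subgroup.center G).Normal).eq_bot_or_eq_top with h | h
  · exact h
  · exfalso
    -- `zG` and `gG 7` do not commute
    have hz : zG ∈ Subgroup.center G := by rw [h]; trivial
    rw [Subgroup.mem_center_iff] at hz
    exact zG_not_comm (hz (gG 7)).symm

theorem card_out : Nat.card (Cfsg.Out G) = 1 := by
  haveI : Finite G := finG
  exact Cfsg.Agent.Helper22.OutTwo.card_out_eq_one_of_le center_G card_mulAut_le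

end Cfsg.Agent.Helper17.Fi23Out
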