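import Cfsg.Agent.Helper17.Fi23Out.Data
import Cfsg.Agent.Helper17.TCGeneric2

/-! The spanning tree of the Schreier graph: coset representatives `tG j` with `phi (tG j) 0 = j`,
and a kernel-friendly evaluation of their inverses. -/

set_option autoImplicit false
set_option linter.all false
set_option maxRecDepth 100000

noncomputable section

namespace Cfsg.Agent.Helper17.Fi23Out

open Cfsg.Spor Cfsg.Agent.Helper17.Fi23TC Cfsg.Agent.Helper17.Fi23Ord Cfsg.Agent.Helper17.Fi23Trans
  Cfsg.Agent.Helper17.TCG

/-- evaluate `e` before passing it on (kernel: the major premise of `Nat.rec` is put in normal form) -/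
def force {α : Sort*} (e : ℕ) (k : ℕ → α) : α :=
  Nat.rec (motive := fun _ => α) (k 0) (fun n _ => k (Nat.succ n)) e

theorem force_eq {α : Sort*} (e : ℕ) (k : ℕ → α) : force e k = k e := by
  cases e <;> rfl

def ent (j : ℕ) : ℕ := Nat.land (Nat.shiftRight treeT (Nat.mul 20 j)) 1048575

def par (j : ℕ) : ℕ := Nat.land (ent j) 32767

def lab (j : ℕ) : ℕ := Nat.shiftRight (ent j) 15

/-- apply the inverse of the coset representative of `j` to the point `p` -/
def upF (f : ℕ) : ℕ → ℕ → ℕ :=
  Nat.rec (motive := fun _ => ℕ → ℕ → ℕ) (fun _ p => p)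
    (fun _ ih j p => cond (Nat.beq j 0) p
      (force (ent j) fun e => force (lk2 (Nat.shiftRight e 15) p) fun p' =>
        ih (Nat.land e 32767) p')) f

/-- the image of the point `0` under the coset representative of `j` -/
def dnF (f : ℕ) : ℕ → ℕ :=
  Nat.rec (motive := fun _ => ℕ → ℕ) (fun _ => 0)
    (fun _ ih j => cond (Nat.beq j 0) 0
      (force (ent j) fun e => lk2 (Nat.shiftRight e 15) (ih (Nat.land e 32767)))) f

/-- the word of the coset representative of `j` -/
def tW : ℕ → ℕ → List ℕ
  | 0, _ => []
  | f + 1, j => if j = 0 then [] else tW f (par j) ++ [lab j]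

theorem upF_zero (j p : ℕ) : upF 0 j p = p := rfl

theorem upF_succ (f j p : ℕ) :
    upF (f + 1) j p = if j = 0 then p else upF f (par j) (lk2 (lab j) p) := by
  show cond (Nat.beq j 0) p (force (ent j) fun e => force (lk2 (Nat.shiftRight e 15) p) fun p' =>
        upF f (Nat.land e 32767) p') = _
  rw [force_eq, force_eq]
  by_cases h : j = 0
  · subst h; rfl
  · rw [if_neg h]
    have : Nat.beq j 0 = false := by
      cases hb : Nat.beq j 0
      · rfl
      · exact absurd (nbeq.mp hb) h
    rw [this]
    rfl

theorem dnF_zero (j : ℕ) : dnF 0 j = 0 := rfl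

theorem dnF_succ (f j : ℕ) :
    dnF (f + 1) j = if j = 0 then 0 else lk2 (lab j) (dnF f (par j)) := by
  show cond (Nat.beq j 0) 0 (force (ent j) fun e =>
    lk2 (Nat.shiftRight e 15) (dnF f (Nat.land e 32767))) = _
  rw [force_eq]
  by_cases h : j = 0
  · subst h; rfl
  · rw [if_neg h]
    have : Nat.beq j 0 = false := by
      cases hb : Nat.beq j 0
      · rfl
      · exact absurd (nbeq.mp hb) h
    rw [this]
    rfl

theorem evalC_append (w : List ℕ) (l i : ℕ) : evalC (w ++ [l]) i = lk2 l (evalC w i) := by
  induction w generalizing i with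
  | nil => rfl
  | cons a w ih => rw [List.cons_append, evalC_cons, evalC_cons, ih]

theorem dnF_eq (f j : ℕ) : dnF f j = evalC (tW f j) 0 := by
  induction f generalizing j with
  | zero => rfl
  | succ f ih =>
    rw [dnF_succ, tW]
    by_cases h : j = 0
    · rw [if_pos h, if_pos h]; rfl
    · rw [if_neg h, if_neg h, evalC_append, ih]

theorem upF_eq (f j p : ℕ) : upF f j p = evalC (tW f j).reverse p := by
  induction f generalizing j p with
  | zero => rfl
  | succ f ih =>
    rw [upF_succ, tW]
    by_cases h : j = 0
    · rw [if_pos h, if_pos h]; rfl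
    · rw [if_neg h, if_neg h, List.reverse_append, List.reverse_singleton, List.singleton_append,
        evalC_cons, ih]

/-- the check of the tree at the point `j` -/
def chkT (j : ℕ) : Bool :=
  cond (Nat.ble 31671 j) true
    (Nat.blt (lab j) 10 && Nat.blt (par j) 31671 && Nat.beq (dnF 64 j) j)

theorem of_slices' (p : ℕ → Bool) (S ns a : ℕ)
    (h : ∀ s, s < ns → allR (a + s * S) S p = true) :
    ∀ i, a ≤ i → i < a + ns * S → p i = true := by
  intro i h1 h2
  have hS : 0 < S := by
    rcases Nat.eq_zero_or_pos S with h0 | h0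
    · subst h0; omega
    · exact h0
  have hs : (i - a) / S < ns := by
    apply Nat.div_lt_of_lt_mul
    rw [Nat.mul_comm]; omega
  have hd := Nat.div_mul_le_self (i - a) S
  have hm := Nat.lt_div_mul_add hS (a := i - a)
  exact (allR_iff _ _ _).mp (h _ hs) i (by omega) (by omega)

theorem TR_0 : allR (0 + 0 * 2000) 2000 chkT = true := by decide +kernel
theorem TR_1 : allR (0 + 1 * 2000) 2000 chkT = true := by decide +kernel
theorem TR_2 : allR (0 + 2 * 2000) 2000 chkT = true := by decide +kernel
theorem TR_3 : allR (0 + 3 * 2000) 2000 chkT = true := by decide +kernel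
theorem TR_4 : allR (0 + 4 * 2000) 2000 chkT = true := by decide +kernel
theorem TR_5 : allR (0 + 5 * 2000) 2000 chkT = true := by decide +kernel
theorem TR_6 : allR (0 + 6 * 2000) 2000 chkT = true := by decide +kernel
theorem TR_7 : allR (0 + 7 * 2000) 2000 chkT = true := by decide +kernel
theorem TR_8 : allR (0 + 8 * 2000) 2000 chkT = true := by decide +kernel
theorem TR_9 : allR (0 + 9 * 2000) 2000 chkT = true := by decide +kernel
theorem TR_10 : allR (0 + 10 * 2000) 2000 chkT = true := by decide +kernel
theorem TR_11 : allR (0 + 11 * 2000) 2000 chkT = true := by decide +kernel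
theorem TR_12 : allR (0 + 12 * 2000) 2000 chkT = true := by decide +kernel
theorem TR_13 : allR (0 + 13 * 2000) 2000 chkT = true := by decide +kernel
theorem TR_14 : allR (0 + 14 * 2000) 2000 chkT = true := by decide +kernel
theorem TR_15 : allR (0 + 15 * 2000) 2000 chkT = true := by decide +kernel

theorem chkT_all : ∀ j, j < N → (Nat.blt (lab j) 10 && Nat.blt (par j) 31671 && Nat.beq (dnF 64 j) j) = true := by
  intro j hj
  have hN : N = 31671 := rfl
  have h := of_slices' chkT 2000 16 0 (by
    intro s hs
    interval_cases s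
    · exact TR_0
    · exact TR_1
    · exact TR_2
    · exact TR_3
    · exact TR_4
    · exact TR_5
    · exact TR_6
    · exact TR_7
    · exact TR_8
    · exact TR_9
    · exact TR_10
    · exact TR_11
    · exact TR_12
    · exact TR_13
    · exact TR_14
    · exact TR_15
    ) j (by omega) (by omega)
  have hg : Nat.ble 31671 j = false := by
    cases hb : Nat.ble 31671 j
    · rfl
    · rw [Nat.ble_eq] at hb; omega
  rw [chkT, hg, cond_false] at h
  exact h

theorem lab_lt {j : ℕ} (hj : j < N) : lab j < nl := by
  have := chkT_all j hj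
  simp only [Bool.and_eq_true, Nat.blt_eq] at this
  exact this.1.1

theorem par_lt {j : ℕ} (hj : j < N) : par j < N := by
  have := chkT_all j hj
  simp only [Bool.and_eq_true, Nat.blt_eq] at this
  exact this.1.2

theorem dnF_ok {j : ℕ} (hj : j < N) : dnF 64 j = j := by
  have := chkT_all j hj
  simp only [Bool.and_eq_true] at this
  exact nbeq.mp this.2

theorem tW_lt (f : ℕ) {j : ℕ} (hj : j < N) : ∀ l ∈ tW f j, l < nl := by
  induction f generalizing j with
  | zero => intro l hl; simp [tW] at hl
  | succ f ih =>
    intro l hl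
    rw [tW] at hl
    by_cases h : j = 0
    · rw [if_pos h] at hl; simp at hl
    · rw [if_neg h, List.mem_append, List.mem_singleton] at hl
      rcases hl with hl | rfl
      · exact ih (par_lt hj) l hl
      · exact lab_lt hj

/-- the coset representative of the point `j` -/
def tG (j : ℕ) : G := prodw (tW 64 j)

theorem phi_tG {j : ℕ} (hj : j < N) : phi (tG j) 0 = j := by
  rw [tG, phi_prodw_apply _ (tW_lt 64 hj), evalw_eq_evalC _ (tW_lt 64 hj) (by decide : 0 < N),
    ← dnF_eq, dnF_ok hj]

theorem phi_tG_inv {j : ℕ} (hj : j < N) {p : ℕ} (hp : p < N) :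
    phi (tG j)⁻¹ p = upF 64 j p := by
  have hlt : ∀ l ∈ (tW 64 j).reverse, l < nl := by
    intro l hl
    exact tW_lt 64 hj l (List.mem_reverse.mp hl)
  rw [tG, ← prodw_reverse, phi_prodw_apply _ hlt, evalw_eq_evalC _ hlt hp, upF_eq]

end Cfsg.Agent.Helper17.Fi23Out
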